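import Groth.Prelude.Def_QCohCat
import Groth.Agent.QCohLib.Coherent
import Groth.Agent.QCohLib.Extend
import Groth.Agent.QCohLib.QCoh
import Mathlib.CategoryTheory.Abelian.Subcategory
import Mathlib.CategoryTheory.Preadditive.LeftExact

/-!
# The inclusion of quasi-coherent modules is exact
-/

set_option autoImplicit false
set_option linter.all false

universe u

open CategoryTheory CategoryTheory.Limits AlgebraicGeometry

noncomputable section

namespace ExactHpLib

variable (X : Scheme.{u})

instance closedIso : (QCohCat.isQCoh X).IsClosedUnderIsomorphisms :=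
  ⟨fun {M N} e h => haveI : Coh.IsQCoh M := h; QCohLib.isQCoh_of_iso e⟩

instance containsZero : (QCohCat.isQCoh X).ContainsZero :=
  ⟨⟨_, isZero_zero X.Modules, QCohLib.isQCoh_of_isZero (isZero_zero X.Modules)⟩⟩

instance closedKer : (QCohCat.isQCoh X).IsClosedUnderKernels where
  kernels_le := by
    rintro _ ⟨φ, k, hk, h1, h2⟩
    haveI : Coh.IsQCoh _ := h1
    haveI : Coh.IsQCoh _ := h2
    haveI : Coh.IsQCoh (Fork.ofι (kernel.ι φ) (by simp) : KernelFork φ).pt := QCohLib.isQCoh_kernel φ
    exact QCohLib.isQCoh_of_iso (IsLimit.conePointUniqueUpToIso (kernelIsKernel φ) hk)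

instance closedCoker : (QCohCat.isQCoh X).IsClosedUnderCokernels where
  cokernels_le := by
    rintro _ ⟨φ, k, hk, h1, h2⟩
    haveI : Coh.IsQCoh _ := h1
    haveI : Coh.IsQCoh _ := h2
    haveI : Coh.IsQCoh (Cofork.ofπ (cokernel.π φ) (by simp) : CokernelCofork φ).pt := QCohLib.isQCoh_cokernel φ
    exact QCohLib.isQCoh_of_iso (IsColimit.coconePointUniqueUpToIso (cokernelIsCokernel φ) hk)

instance closedBinary : (QCohCat.isQCoh X).IsClosedUnderBinaryProducts where
  limitsOfShape_le := by
    rintro M ⟨p⟩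
    haveI : Coh.IsQCoh (p.diag.obj ⟨.left⟩) := p.prop_diag_obj ⟨.left⟩
    haveI : Coh.IsQCoh (p.diag.obj ⟨.right⟩) := p.prop_diag_obj ⟨.right⟩
    haveI := QCohLib.isQCoh_biprod (p.diag.obj ⟨.left⟩) (p.diag.obj ⟨.right⟩)
    exact QCohLib.isQCoh_of_iso
      (biprod.isoProd (p.diag.obj ⟨.left⟩) (p.diag.obj ⟨.right⟩) ≪≫
        HasLimit.isoOfNatIso (diagramIsoPair p.diag).symm ≪≫
        (IsLimit.conePointUniqueUpToIso (limit.isLimit p.diag) p.isLimit))

instance closedFin : (QCohCat.isQCoh X).IsClosedUnderFiniteProducts := .mk'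

theorem exact_ι : PreservesFiniteLimits (QCohCat.isQCoh X).ι ∧ PreservesFiniteColimits (QCohCat.isQCoh X).ι := by
  haveI : ∀ {A B : (QCohCat.isQCoh X).FullSubcategory} (f : A ⟶ B),
      PreservesLimit (parallelPair f 0) (QCohCat.isQCoh X).ι := fun f => (QCohCat.isQCoh X).preservesKernels_ι f
  haveI : ∀ {A B : (QCohCat.isQCoh X).FullSubcategory} (f : A ⟶ B),
      PreservesColimit (parallelPair f 0) (QCohCat.isQCoh X).ι := fun f => (QCohCat.isQCoh X).preservesCokernels_ι f
  exact ⟨Functor.preservesFiniteLimits_of_preservesKernels _,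
    Functor.preservesFiniteColimits_of_preservesCokernels _⟩

end ExactHpLib
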