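import Groth.Agent.ExactHpLib.Ring

/-!
# Flat cokernels from exactness of `N ↦ H^p(N ⊗ E)`
-/

set_option autoImplicit false
set_option linter.all false
set_option backward.isDefEq.respectTransparency false
set_option backward.isDefEq.respectTransparency.types false
set_option maxHeartbeats 1000000

universe u

open CategoryTheory CategoryTheory.Limits HomologicalComplex MonoidalCategory
open Groth.Agent

attribute [local instance] HasDerivedCategory.standard

noncomputable section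

namespace ExactHpLib

variable {R : Type u} [CommRing R]

theorem flat_of_shortExact_GF (E : CochainComplex (ModuleCat.{u} R) ℤ) (p : ℤ)
    [Module.Flat R (E.X (p + 1))]
    (h : ∀ S : ShortComplex (ModuleCat.{u} R), S.ShortExact → (S.map (GF E p)).ShortExact) :
    Module.Flat R ((E.X p : Type u) ⧸ LinearMap.range (E.d (p - 1) p).hom) ∧
      Module.Flat R ((E.X (p + 1) : Type u) ⧸ LinearMap.range (E.d p (p + 1)).hom) := by
  let a := (E.d (p - 1) p).hom
  let c := (E.d p (p + 1)).hom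
  let q0 := (LinearMap.range a).mkQ
  let q1 := (LinearMap.range c).mkQ
  have hk : (ComplexShape.up ℤ).next p = p + 1 := by simp
  have hj : (ComplexShape.up ℤ).prev p = p - 1 := by simp
  have comm : ∀ {N N' : ModuleCat.{u} R} (f : N →ₗ[R] N') {i j : ℤ} (φ : E.X i →ₗ[R] E.X j) (w),
      φ.lTensor N' (f.rTensor (E.X i) w) = f.rTensor (E.X j) (φ.lTensor N w) := fun f i j φ w =>
    LinearMap.congr_fun ((LinearMap.lTensor_comp_rTensor _ f φ).trans (LinearMap.rTensor_comp_lTensor _ f φ).symm) w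
  have ex0 : ∀ N : ModuleCat.{u} R, Function.Exact (a.lTensor N) (q0.lTensor N) := fun N =>
    lTensor_exact N (LinearMap.exact_map_mkQ_range a) (Submodule.mkQ_surjective _)
  have ex1 : ∀ N : ModuleCat.{u} R, Function.Exact (c.lTensor N) (q1.lTensor N) := fun N =>
    lTensor_exact N (LinearMap.exact_map_mkQ_range c) (Submodule.mkQ_surjective _)
  suffices key : ∀ (N N' : Type u) [AddCommGroup N] [AddCommGroup N'] [Module R N] [Module R N']
      (f₀ : N →ₗ[R] N'), Function.Injective f₀ →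
      Function.Injective (f₀.rTensor ((E.X p : Type u) ⧸ LinearMap.range a)) ∧
      Function.Injective (f₀.rTensor ((E.X (p + 1) : Type u) ⧸ LinearMap.range c)) from
    ⟨Module.Flat.iff_rTensor_preserves_injective_linearMap.2 fun N N' _ _ _ _ f₀ hf => (key N N' f₀ hf).1,
      Module.Flat.iff_rTensor_preserves_injective_linearMap.2 fun N N' _ _ _ _ f₀ hf => (key N N' f₀ hf).2⟩
  intro N N' _ _ _ _ f₀ hf
  let φ : ModuleCat.of R N ⟶ ModuleCat.of R N' := ModuleCat.ofHom f₀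
  haveI : Mono φ := (ModuleCat.mono_iff_injective _).2 hf
  let S := ShortComplex.mk φ (cokernel.π φ) (cokernel.condition φ)
  have hS : S.ShortExact := { exact := ShortComplex.exact_of_g_is_cokernel _ (cokernelIsCokernel φ) }
  have hg : Function.Surjective S.g.hom := (ModuleCat.epi_iff_surjective _).1 hS.epi_g
  have hfg : Function.Exact S.f.hom S.g.hom :=
    (ShortComplex.ShortExact.moduleCat_exact_iff_function_exact S).1 hS.exact
  let L₁ := (tN E).obj S.X₁
  let L₂ := (tN E).obj S.X₂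
  let L₃ := (tN E).obj S.X₃
  let cl := fun (L : CochainComplex (ModuleCat.{u} R) ℤ) => FlatCxLib.hcls L p (p + 1) hk
  have hmf : ∀ z : LinearMap.ker (L₁.d p (p + 1)).hom,
      (S.map (GF E p)).f (cl L₁ z) = cl L₂ ⟨(S.f.hom.rTensor (E.X p)) z.1,
        FlatCxLib.map_mem_ker p (p + 1) ((tN E).map S.f) z⟩ :=
    FlatCxLib.homologyMap_hcls p (p + 1) hk ((tN E).map S.f)
  have hmg : ∀ z : LinearMap.ker (L₂.d p (p + 1)).hom,
      (S.map (GF E p)).g (cl L₂ z) = cl L₃ ⟨(S.g.hom.rTensor (E.X p)) z.1,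
        FlatCxLib.map_mem_ker p (p + 1) ((tN E).map S.g) z⟩ :=
    FlatCxLib.homologyMap_hcls p (p + 1) hk ((tN E).map S.g)
  have hGF := h S hS
  refine ⟨(injective_iff_map_eq_zero _).2 fun w hw => ?_, (injective_iff_map_eq_zero _).2 fun w hw => ?_⟩
  · obtain ⟨z, rfl⟩ := LinearMap.lTensor_surjective _ (Submodule.mkQ_surjective (LinearMap.range a)) w
    have h1 : q0.lTensor S.X₂ (S.f.hom.rTensor (E.X p) z) = 0 := by
      refine Eq.trans ?_ hw
      exact LinearMap.congr_fun ((LinearMap.lTensor_comp_rTensor _ S.f.hom q0).trans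
        (LinearMap.rTensor_comp_lTensor _ S.f.hom q0).symm) z
    obtain ⟨v, hv⟩ := (ex0 S.X₂ _).1 h1
    have hac : ∀ v, c.lTensor S.X₂ (a.lTensor S.X₂ v) = 0 := fun v => by
      rw [← LinearMap.comp_apply, ← LinearMap.lTensor_comp, show c ∘ₗ a = 0 by
        rw [← ModuleCat.hom_comp, E.d_comp_d]; rfl, LinearMap.lTensor_zero]
      rfl
    have hz : z ∈ LinearMap.ker (L₁.d p (p + 1)).hom := by
      refine Module.Flat.rTensor_preserves_injective_linearMap (M := (E.X (p + 1) : Type u)) S.f.hom hf ?_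
      show S.f.hom.rTensor (E.X (p + 1)) (c.lTensor S.X₁ z) = S.f.hom.rTensor (E.X (p + 1)) 0
      rw [← comm, ← hv, hac, map_zero]
    have h2 : (S.map (GF E p)).f (cl L₁ ⟨z, hz⟩) = 0 :=
      (hmf ⟨z, hz⟩).trans ((FlatCxLib.hcls_eq_zero_iff L₂ p (p + 1) hk (p - 1) hj _).2 ⟨v, hv⟩)
    have h3 : cl L₁ ⟨z, hz⟩ = 0 :=
      (ModuleCat.mono_iff_injective _).1 hGF.mono_f (h2.trans (map_zero _).symm)
    obtain ⟨t, ht⟩ := (FlatCxLib.hcls_eq_zero_iff L₁ p (p + 1) hk (p - 1) hj _).1 h3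
    exact (ex0 S.X₁ z).2 ⟨t, ht⟩
  · obtain ⟨u, rfl⟩ := LinearMap.lTensor_surjective _ (Submodule.mkQ_surjective (LinearMap.range c)) w
    have h1 : q1.lTensor S.X₂ (S.f.hom.rTensor (E.X (p + 1)) u) = 0 := by
      refine Eq.trans ?_ hw
      exact LinearMap.congr_fun ((LinearMap.lTensor_comp_rTensor _ S.f.hom q1).trans
        (LinearMap.rTensor_comp_lTensor _ S.f.hom q1).symm) u
    obtain ⟨y, hy⟩ := (ex1 S.X₂ _).1 h1
    have hy3 : S.g.hom.rTensor (E.X p) y ∈ LinearMap.ker (L₃.d p (p + 1)).hom := by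
      show c.lTensor S.X₃ (S.g.hom.rTensor (E.X p) y) = 0
      rw [comm, hy]
      exact (rTensor_exact (E.X (p + 1)) hfg hg _).2 ⟨u, rfl⟩
    obtain ⟨η, hη⟩ := (ModuleCat.epi_iff_surjective _).1 hGF.epi_g (cl L₃ ⟨_, hy3⟩)
    obtain ⟨⟨y₂', hy₂⟩, rfl⟩ := FlatCxLib.hcls_surjective L₂ p (p + 1) hk η
    obtain ⟨y₂, rfl⟩ : ∃ y₂ : TensorProduct R S.X₂ (E.X p), y₂ = y₂' := ⟨y₂', rfl⟩
    rw [hmg ⟨y₂, hy₂⟩, ← sub_eq_zero] at hη
    obtain ⟨w₃, hw₃⟩ := (FlatCxLib.hcls_eq_zero_iff L₃ p (p + 1) hk (p - 1) hj _).1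
      (((cl L₃).map_sub _ _).trans hη)
    replace hw₃ : a.lTensor S.X₃ w₃ = S.g.hom.rTensor (E.X p) y₂ - S.g.hom.rTensor (E.X p) y := hw₃
    obtain ⟨w₂, rfl⟩ := LinearMap.rTensor_surjective (E.X (p - 1)) hg w₃
    rw [comm, ← map_sub] at hw₃
    have h4 : S.g.hom.rTensor (E.X p) (y - y₂ + a.lTensor S.X₂ w₂) = 0 := by
      rw [map_add, hw₃, map_sub, map_sub]
      abel
    obtain ⟨v, hv⟩ := (rTensor_exact (E.X p) hfg hg _).1 h4
    refine (ex1 S.X₁ u).2 ⟨v, ?_⟩
    refine Module.Flat.rTensor_preserves_injective_linearMap (M := (E.X (p + 1) : Type u)) S.f.hom hf ?_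
    show S.f.hom.rTensor (E.X (p + 1)) (c.lTensor S.X₁ v) = S.f.hom.rTensor (E.X (p + 1)) u
    have hac : c.lTensor S.X₂ (a.lTensor S.X₂ w₂) = 0 := by
      rw [← LinearMap.comp_apply, ← LinearMap.lTensor_comp, show c ∘ₗ a = 0 by
        rw [← ModuleCat.hom_comp, E.d_comp_d]; rfl, LinearMap.lTensor_zero]
      rfl
    have hy₂' : c.lTensor S.X₂ y₂ = 0 := hy₂
    rw [← comm, hv, map_add, map_sub, hy, hy₂', hac, sub_zero, add_zero]

end ExactHpLib
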