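import Groth.Agent.ExactHpLib.Test
import Groth.Agent.PerfFibreLib.Single
import Groth.Agent.PerfFibreLib.Split

/-!
# Local freeness and constancy of Betti numbers from exactness
-/

set_option autoImplicit false
set_option linter.all false
set_option backward.isDefEq.respectTransparency false
set_option backward.isDefEq.respectTransparency.types false
set_option maxHeartbeats 1000000

universe u

open CategoryTheory CategoryTheory.Limits AlgebraicGeometry HomologicalComplex
open Groth.Agent
open Groth.Agent.PerfLib (resD resC res resDQIso IAE)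

attribute [local instance] HasDerivedCategory.standard

noncomputable section

namespace ExactHpLib

/-- Consequences of flat cokernels for a model. -/
theorem model_consequences {A : Type u} [CommRing A] (M : PerfFibreLib.MCx A) (r : ℤ → ℕ)
    (e : ∀ i, M.X i ≃ₗ[A] (Fin (r i) → A)) (p : ℤ)
    (h0 : Module.Flat A (PerfFibreLib.cok M p))
    (h1 : Module.Flat A ((M.X (p + 1) : Type u) ⧸ LinearMap.range (M.d p (p + 1)).hom)) :
    Module.Finite A (M.homology p) ∧ Module.Projective A (M.homology p) ∧
      IsLocallyConstant fun q : PrimeSpectrum A => PerfFibreLib.beta M q p := by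
  have hM : ∀ i, Module.Finite A (M.X i) := fun i => Module.Finite.equiv (e i).symm
  have hfp : ∀ i, Module.FinitePresentation A (PerfFibreLib.cok M i) := fun i => by
    have := hM i
    have := hM (i - 1)
    haveI : Module.Free A (M.X i) := Module.Free.of_equiv (e i).symm
    haveI := Module.finitePresentation_of_projective A (M.X i)
    refine Module.finitePresentation_of_surjective _ (Submodule.mkQ_surjective _) ?_
    rw [Submodule.ker_mkQ, LinearMap.range_eq_map]
    exact Submodule.FG.map _ Module.Finite.fg_top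
  have h1' : Module.Flat A (PerfFibreLib.cok M (p + 1)) := by
    have h2 : ∀ i : ℤ, i = p → Module.Flat A ((M.X (p + 1) : Type u) ⧸ LinearMap.range (M.d i (p + 1)).hom) :=
      fun i hi => by subst hi; exact h1
    exact h2 _ (by omega)
  haveI := hfp p
  haveI := hfp (p + 1)
  haveI : Module.Projective A (PerfFibreLib.cok M p) := Module.Flat.projective_of_finitePresentation
  haveI : Module.Projective A (PerfFibreLib.cok M (p + 1)) := Module.Flat.projective_of_finitePresentation
  haveI := hM p
  haveI := hM (p + 1)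
  obtain ⟨hf, hp, -, hrk⟩ := PerfFibreLib.dbar_split M r e p
  haveI := hf
  haveI := hp inferInstance
  obtain ⟨eh⟩ := PerfFibreLib.nonempty_homology_ker M p
  refine ⟨Module.Finite.equiv eh.symm, Module.Projective.of_equiv eh.symm, ?_⟩
  haveI := Module.finitePresentation_of_projective A (LinearMap.ker (PerfFibreLib.dbar M p))
  simp only [← hrk]
  exact FlatCxLib.isLocallyConstant_fibreRank _

variable {X : Scheme.{u}}

/-- Exactness on test modules gives local freeness and locally constant Betti numbers. -/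
theorem finFree_of_exact [∀ x : X, DCoh.HasLpull (X.fromSpecResidueField x)]
    (F : CochainComplex X.Modules ℤ) [DCoh.HasLTensorCx F] (p : ℤ)
    (hE : DCoh.IsPseudoCoherentD (p - 1) (DCoh.toD X F)) (Q : X.Modules → Prop)
    (hQc : ∀ {M N : X.Modules} (φ : M ⟶ N), Q M → Q N → Q (cokernel φ))
    (hQj : ∀ (A : CommRingCat.{u}) (j : Spec A ⟶ X) [IsOpenImmersion j] (N : ModuleCat.{u} A),
      Q ((Scheme.Modules.pushforward j).obj ((tilde.functor A).obj N)))
    (h : ∀ (H : X.Modules ⥤ X.Modules) [H.PreservesZeroMorphisms],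
      (DerivedCategory.singleFunctor X.Modules 0 ⋙ DCoh.LTensorCx F ⋙
        DerivedCategory.homologyFunctor X.Modules p ≅ H) →
      ∀ S : ShortComplex X.Modules, S.ShortExact → Q S.X₁ → Q S.X₂ → Q S.X₃ → (S.map H).ShortExact) :
    FlatMod.IsFinLocFree (DCoh.HD (DCoh.toD X F) p) ∧
      IsLocallyConstant (fun x : X => PerfD.betti (DCoh.toD X F) x p) := by
  let P := (KFlatLib.resP X).obj F
  let q : P ⟶ F := (KFlatLib.resψ X).app F
  haveI : QuasiIso q := KFlatLib.quasiIso_resψ F
  have hP : DCoh.IsKFlat P := (KFlatLib.good_resP F).1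
  obtain ⟨eH⟩ := nonempty_iso_Hp F P q hP p
  let eP : DCoh.toD X P ≅ DCoh.toD X F := asIso (DerivedCategory.Q.map q)
  have loc : ∀ x : X, ∃ (A : CommRingCat.{u}) (j : Spec A ⟶ X) (_ : IsOpenImmersion j), x ∈ Set.range j ∧
      FlatMod.IsFinLocFree ((DCoh.HD (DCoh.toD X F) p).restrict j) ∧
      IsLocallyConstant fun z : Spec A => PerfD.betti (DCoh.toD X F) (j z) p := fun x => by
    obtain ⟨A, j, hj, q₀, M, r, a, b, α, hp, hr, hM, hα⟩ := PerfFibreLib.exists_model_pc hE x
    obtain ⟨h0, h1⟩ := flat_cok_of_exact P hP eP j M r a b hr hM p α hα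
      (shortExact_GF_stalk P p Q hQc
        (h _ eH) j (hQj A j))
    obtain ⟨hf, hpr, hc⟩ := model_consequences M r (fun i => (hM i).some) p h0 h1
    have key : (fun z : Spec A => PerfD.betti (DCoh.toD X F) (j z) p) =
        fun z : PrimeSpectrum A => PerfFibreLib.beta M z p := funext fun z =>
      PerfFibreLib.betti_eq_beta _ j M r a b hr hM α hα z p (by omega)
    haveI : IsIso ((DerivedCategory.homologyFunctor (Spec A).Modules p).map α) := hα.1 p (by omega)
    let e : (tilde.functor A).obj (M.homology p) ≅ (DCoh.HD (DCoh.toD X F) p).restrict j :=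
      (PerfFibreLib.hdTilde M p).symm ≪≫ asIso ((DerivedCategory.homologyFunctor _ p).map α) ≪≫
        Groth.Agent.PerfLib.resHDIso j (DCoh.toD X F) p
    refine ⟨A, j, hj, ⟨q₀, hp⟩, ?_, key ▸ hc⟩
    haveI := hj
    intro z
    obtain ⟨U, n, hz, ⟨eU⟩⟩ := (MiscFlat6.isFinLocFree_iff (M.homology p)).2 ⟨hf, hpr⟩ z
    exact ⟨U, n, hz, ⟨(Scheme.Modules.restrictFunctor U.ι).mapIso e.symm ≪≫ eU⟩⟩
  refine ⟨PerfFibreLib.isFinLocFree_of_openCover fun x => ?_, (IsLocallyConstant.iff_exists_open _).2 fun x => ?_⟩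
  · obtain ⟨A, j, hj, hx, hA, -⟩ := loc x
    exact ⟨Spec A, j, hj, hx, hA⟩
  · obtain ⟨A, j, hj, ⟨z, rfl⟩, -, hA⟩ := loc x
    obtain ⟨W, hW, hzW, hWc⟩ := (IsLocallyConstant.iff_exists_open _).1 hA z
    refine ⟨j '' W, j.isOpenEmbedding.isOpenMap W hW, ⟨z, hzW, rfl⟩, ?_⟩
    rintro _ ⟨w, hw, rfl⟩
    exact hWc w hw

end ExactHpLib
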