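import Groth.Agent.ExactHpLib.Sheaf
import Groth.Agent.ExactHpLib.QCat
import Mathlib.Algebra.Homology.HomologySequence

/-!
# Right exactness of `H^p` and left exactness of `H^{p+1}`
-/

set_option autoImplicit false
set_option linter.all false
set_option backward.isDefEq.respectTransparency false
set_option backward.isDefEq.respectTransparency.types false
set_option maxHeartbeats 1000000

universe u

open CategoryTheory CategoryTheory.Limits AlgebraicGeometry HomologicalComplex MonoidalCategory
open Groth.Agent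

attribute [local instance] HasDerivedCategory.standard

noncomputable section

namespace ExactHpLib

theorem rightExact_iff_leftExact_succ {C A : Type*} [Category C] [Abelian C] [Category A] [Abelian A]
    (T : C ⥤ CochainComplex A ℤ) [T.Additive]
    (hT : ∀ S : ShortComplex C, S.ShortExact → (S.map T).ShortExact) (p : ℤ) :
    PreservesFiniteColimits (T ⋙ homologyFunctor A (ComplexShape.up ℤ) p) ↔
      PreservesFiniteLimits (T ⋙ homologyFunctor A (ComplexShape.up ℤ) (p + 1)) := by
  rw [(Functor.preservesFiniteColimits_tfae (T ⋙ homologyFunctor A (ComplexShape.up ℤ) p)).out 3 0 rfl rfl,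
    (Functor.preservesFiniteLimits_tfae (T ⋙ homologyFunctor A (ComplexShape.up ℤ) (p + 1))).out 3 0 rfl rfl]
  refine forall₂_congr fun S hS => ?_
  have h := hT S hS
  have h1 := h.homology_exact₁ p (p + 1) rfl
  have h3 := h.homology_exact₃ p (p + 1) rfl
  constructor
  · rintro ⟨-, he⟩
    exact ⟨h.homology_exact₂ (p + 1), h1.mono_g_iff.2 (h3.epi_f_iff.1 he)⟩
  · rintro ⟨-, hm⟩
    exact ⟨h.homology_exact₂ p, h3.epi_f_iff.2 (h1.mono_g_iff.1 hm)⟩

variable {X : Scheme.{u}}

theorem shortExact_tN {R : Type u} [CommRing R] (P : CochainComplex (ModuleCat.{u} R) ℤ)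
    (hP : ∀ n, Module.Flat R (P.X n)) {S : ShortComplex (ModuleCat.{u} R)} (hS : S.ShortExact) :
    (S.map (tN P)).ShortExact := by
  refine shortExact_of_degreewise_shortExact _ fun n => ?_
  haveI := hP n
  exact
    { exact := Module.Flat.rTensor_shortComplex_exact (P.X n) _ hS.exact
      mono_f := (ModuleCat.mono_iff_injective _).2
        (Module.Flat.rTensor_preserves_injective_linearMap (M := (P.X n : Type u)) _
          ((ModuleCat.mono_iff_injective _).1 hS.mono_f))
      epi_g := (ModuleCat.epi_iff_surjective _).2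
        (LinearMap.rTensor_surjective _ ((ModuleCat.epi_iff_surjective _).1 hS.epi_g)) }

/-- `M ↦ M[0] ⊗ P` is exact for termwise flat `P`. -/
theorem shortExact_tR (P : CochainComplex X.Modules ℤ)
    (hP : ∀ (n : ℤ) (x : X), Module.Flat (X.presheaf.stalk x) (((KFlatLib.stalkCx X x).obj P).X n))
    {S : ShortComplex X.Modules} (hS : S.ShortExact) :
    (S.map (single X.Modules (ComplexShape.up ℤ) 0 ⋙ TensorAssocLib.tR P)).ShortExact := by
  refine shortExact_of_degreewise_shortExact _ fun n => PerfCompLib.shortExact_of_stalks _ fun x => ?_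
  let St := DerSch.stalkFunctor X x
  let Px := (KFlatLib.stalkCx X x).obj P
  let e : (single X.Modules (ComplexShape.up ℤ) 0 ⋙ TensorAssocLib.tR P) ⋙ KFlatLib.stalkCx X x ≅ St ⋙ tN Px :=
    Functor.associator _ _ _ ≪≫ Functor.isoWhiskerLeft _ (stalkTR P x) ≪≫ (Functor.associator _ _ _).symm ≪≫
      Functor.isoWhiskerRight (singleMapHomologicalComplex St (ComplexShape.up ℤ) 0) _ ≪≫
      Functor.associator _ _ _ ≪≫ Functor.isoWhiskerLeft _ (asIso (tNHom Px)).symm
  have h1 := ShortComplex.shortExact_of_iso (S.mapNatIso e).symm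
    (shortExact_tN Px (fun k => hP k x) (hS.map_of_exact St))
  exact h1.map_of_exact (eval (ModuleCat.{u} (X.presheaf.stalk x)) (ComplexShape.up ℤ) n)

/-- `M ↦ M[0] ⊗ P` on quasi-coherent modules. -/
abbrev qT (P : CochainComplex X.Modules ℤ) : (QCohCat.isQCoh X).FullSubcategory ⥤ CochainComplex X.Modules ℤ :=
  (QCohCat.isQCoh X).ι ⋙ single X.Modules (ComplexShape.up ℤ) 0 ⋙ TensorAssocLib.tR P

theorem shortExact_qT (P : CochainComplex X.Modules ℤ)
    (hP : ∀ (n : ℤ) (x : X), Module.Flat (X.presheaf.stalk x) (((KFlatLib.stalkCx X x).obj P).X n))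
    (S : ShortComplex (QCohCat.isQCoh X).FullSubcategory) (hS : S.ShortExact) : (S.map (qT P)).ShortExact := by
  haveI h3 := (exact_ι X).1
  haveI h4 := (exact_ι X).2
  have h : (S.map (QCohCat.isQCoh X).ι).ShortExact := hS.map_of_exact (QCohCat.isQCoh X).ι
  have h' := shortExact_tR P hP h
  exact h'

theorem main_qT (P : CochainComplex X.Modules ℤ)
    (hP : ∀ (n : ℤ) (x : X), Module.Flat (X.presheaf.stalk x) (((KFlatLib.stalkCx X x).obj P).X n)) (p : ℤ) :
    PreservesFiniteColimits (qT P ⋙ homologyFunctor X.Modules (ComplexShape.up ℤ) p) ↔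
      PreservesFiniteLimits (qT P ⋙ homologyFunctor X.Modules (ComplexShape.up ℤ) (p + 1)) := by
  exact rightExact_iff_leftExact_succ (C := (QCohCat.isQCoh X).FullSubcategory) (A := X.Modules) (qT P) (shortExact_qT P hP) p

/-- Right exactness in degree `p` and left exactness in degree `p + 1`, on quasi-coherent modules. -/
theorem qcoh_rightExact_iff_leftExact_succ (K : CochainComplex X.Modules ℤ) [DCoh.HasLTensorCx K] (p : ℤ) :
    PreservesFiniteColimits ((QCohCat.isQCoh X).ι ⋙ (DerivedCategory.singleFunctor X.Modules 0 ⋙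
        DCoh.LTensorCx K ⋙ DerivedCategory.homologyFunctor X.Modules p)) ↔
      PreservesFiniteLimits ((QCohCat.isQCoh X).ι ⋙ (DerivedCategory.singleFunctor X.Modules 0 ⋙
        DCoh.LTensorCx K ⋙ DerivedCategory.homologyFunctor X.Modules (p + 1))) := by
  let P := (KFlatLib.resP X).obj K
  let q : P ⟶ K := (KFlatLib.resψ X).app K
  haveI : QuasiIso q := KFlatLib.quasiIso_resψ K
  have hP : DCoh.IsKFlat P := (KFlatLib.good_resP K).1
  have main := main_qT P (fun n x => (KFlatLib.good_resP K).2 n x) p
  obtain ⟨e₀⟩ := nonempty_iso_Hp K P q hP p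
  obtain ⟨e₁⟩ := nonempty_iso_Hp K P q hP (p + 1)
  let a₀ := Functor.isoWhiskerLeft (QCohCat.isQCoh X).ι e₀ ≪≫ Functor.isoWhiskerLeft _ (Functor.associator _ _ _).symm ≪≫
    (Functor.associator _ _ _).symm
  let a₁ := Functor.isoWhiskerLeft (QCohCat.isQCoh X).ι e₁ ≪≫ Functor.isoWhiskerLeft _ (Functor.associator _ _ _).symm ≪≫
    (Functor.associator _ _ _).symm
  exact ⟨fun h => haveI := main.1 (preservesFiniteColimits_of_natIso a₀); preservesFiniteLimits_of_natIso a₁.symm,
    fun h => haveI := main.2 (preservesFiniteLimits_of_natIso a₁); preservesFiniteColimits_of_natIso a₀.symm⟩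

end ExactHpLib
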