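import Groth.Agent.ExactHpLib.Sheaf
import Groth.Agent.PerfFibreLib.Model
import Groth.Agent.TildeRelAmpLib.Main
import Groth.Agent.SemiRankLib.Reduced
import Groth.Agent.FlatCxLib.Rank

/-!
# Exactness from an affine model with flat cokernels
-/

set_option autoImplicit false
set_option linter.all false
set_option backward.isDefEq.respectTransparency false
set_option backward.isDefEq.respectTransparency.types false
set_option maxHeartbeats 1000000

universe u

open CategoryTheory CategoryTheory.Limits AlgebraicGeometry HomologicalComplex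
open Groth.Agent
open Groth.Agent.PerfLib (resD resC res resDQIso IAE)

attribute [local instance] HasDerivedCategory.standard

noncomputable section

namespace ExactHpLib

theorem isZero_cone_of_IAE {R : Type u} [CommRing R] {E P : CochainComplex (ModuleCat.{u} R) ℤ} (g : E ⟶ P) (m : ℤ)
    (h : IAE (DerivedCategory.Q.map g) m) (i : ℤ) (hi : m ≤ i) :
    IsZero ((CochainComplex.mappingCone g).homology i) := by
  let T := DerivedCategory.Q.mapTriangle.obj (CochainComplex.mappingCone.triangle g)
  have hT : T ∈ Pretriangulated.distinguishedTriangles := DerivedCategory.mappingCone_triangle_distinguished g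
  obtain ⟨h1, h2⟩ := h
  have hepi : Epi ((DerivedCategory.homologyFunctor (ModuleCat.{u} R) i).map T.mor₁) := by
    rcases hi.eq_or_lt with rfl | h
    · exact h2
    · have : IsIso ((DerivedCategory.homologyFunctor (ModuleCat.{u} R) i).map T.mor₁) := h1 i h
      infer_instance
  have hmono : Mono ((DerivedCategory.homologyFunctor (ModuleCat.{u} R) (i + 1)).map T.mor₁) := by
    have : IsIso ((DerivedCategory.homologyFunctor (ModuleCat.{u} R) (i + 1)).map T.mor₁) := h1 (i + 1) (by omega)
    infer_instance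
  have hz : IsZero ((DerivedCategory.homologyFunctor (ModuleCat.{u} R) i).obj T.obj₃) :=
    (DerivedCategory.HomologySequence.exact₃ T hT i (i + 1) rfl).isZero_X₂
      ((DerivedCategory.HomologySequence.epi_homologyMap_mor₁_iff T hT i).mp hepi)
      ((DerivedCategory.HomologySequence.mono_homologyMap_mor₁_iff T hT i (i + 1) rfl).mp hmono)
  exact hz.of_iso ((DerivedCategory.homologyFunctorFactors _ i).app _).symm

theorem flat_coker_extCx {A R : Type u} [CommRing A] [CommRing R] (χ : A →+* R)
    (M : CochainComplex (ModuleCat.{u} A) ℤ) (i j : ℤ)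
    (h : Module.Flat A ((M.X j : Type u) ⧸ LinearMap.range (M.d i j).hom)) :
    Module.Flat R ((((DRingLib.extCx χ).obj M).X j : Type u) ⧸
      LinearMap.range (((DRingLib.extCx χ).obj M).d i j).hom) := by
  letI := χ.toAlgebra
  let E := ModuleCat.extendScalars.{u, u, u} χ
  haveI : PreservesColimitsOfSize.{0, 0} E := (ModuleCat.extendRestrictScalarsAdj χ).leftAdjoint_preservesColimits
  let e := (ModuleCat.cokernelIsoRangeQuotient (E.map (M.d i j))).symm ≪≫
    (PreservesCokernel.iso E (M.d i j)).symm ≪≫ E.mapIso (ModuleCat.cokernelIsoRangeQuotient (M.d i j))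
  let N := ModuleCat.of A ((M.X j : Type u) ⧸ LinearMap.range (M.d i j).hom)
  haveI : Module.Flat A (N : Type u) := h
  haveI hF : Module.Flat R (E.obj N) := Module.Flat.baseChange A R N
  exact @Module.Flat.of_linearEquiv R ((E.obj N : ModuleCat.{u} R) : Type u) _ _ _ _ _ _ hF e.toLinearEquiv

variable {X : Scheme.{u}}

/-- The stalk of a restricted tilde sheaf, over the local ring downstairs. -/
theorem exists_stalk_tilde {A : CommRingCat.{u}} (j : Spec A ⟶ X) [IsOpenImmersion j] (q : Spec A) :
    ∃ (χ : A →+* X.presheaf.stalk (j q)) (Θ : (Spec A).Modules ⥤ ModuleCat.{u} (X.presheaf.stalk (j q)))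
      (_ : Θ.Additive) (_ : PreservesFiniteLimits Θ) (_ : PreservesFiniteColimits Θ)
      (_ : @IsLocalization.AtPrime A _ (X.presheaf.stalk (j q)) _ χ.toAlgebra q.asIdeal _),
      Nonempty (res j ⋙ Θ ≅ DerSch.stalkFunctor X (j q)) ∧
      Nonempty (tilde.functor A ⋙ Θ ≅ ModuleCat.extendScalars.{u, u, u} χ) := by
  let φ := (j.stalkMap q).hom
  let σ := KFlatLib.specStalk q
  let adj := ModuleCat.extendRestrictScalarsAdj.{u, u, u} φ
  haveI : (ModuleCat.restrictScalars.{u} φ).IsEquivalence :=
    (ModuleCat.restrictScalarsEquivalenceOfRingEquiv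
      (asIso (j.stalkMap q)).commRingCatIsoToRingEquiv).isEquivalence_functor
  haveI := adj.isEquivalence_left_of_isEquivalence_right
  let χ : A →+* X.presheaf.stalk (j q) := (inv (j.stalkMap q)).hom.comp σ
  have hσ : σ = φ.comp χ := by
    refine RingHom.ext fun a => ?_
    exact ((IsIso.inv_hom_id_apply (j.stalkMap q) (σ a))).symm
  letI := σ.toAlgebra
  have hloc : IsLocalization.AtPrime ((Spec A).presheaf.stalk q) q.asIdeal :=
    StructureSheaf.IsLocalization.to_stalk A q
  let eR : (Spec A).presheaf.stalk q ≃+* X.presheaf.stalk (j q) :=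
    (asIso (j.stalkMap q)).symm.commRingCatIsoToRingEquiv
  refine ⟨χ, DerSch.stalkFunctor (Spec A) q ⋙ ModuleCat.restrictScalars φ, inferInstance, inferInstance, inferInstance,
    (IsLocalization.isLocalization_iff_of_ringEquiv q.asIdeal.primeCompl eR).1 hloc, ⟨?_⟩, ⟨?_⟩⟩
  · exact (Functor.associator _ _ _).symm ≪≫
      Functor.isoWhiskerRight (Functor.isoWhiskerRight (Scheme.Modules.restrictFunctorIsoPullback j) _ ≪≫
        KFlatLib.stalkPullIso j q) _ ≪≫
      Functor.associator _ _ _ ≪≫ Functor.isoWhiskerLeft _ (asIso adj.unit).symm ≪≫ Functor.rightUnitor _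
  · exact (Functor.associator _ _ _).symm ≪≫
      Functor.isoWhiskerRight (KFlatLib.stalkTildeIso q ≪≫ eqToIso (congrArg ModuleCat.extendScalars.{u, u, u} hσ) ≪≫
        ModuleCat.extendScalarsComp χ φ) _ ≪≫
      Functor.associator _ _ _ ≪≫ Functor.isoWhiskerLeft _ (asIso adj.unit).symm ≪≫ Functor.rightUnitor _

/-- At a point of a chart a model computes `N ↦ H^p(N ⊗ P)`. -/
theorem exists_GF_iso_model (P : CochainComplex X.Modules ℤ) (hP : DCoh.IsKFlat P) {K : DCoh.D X}
    (eP : DCoh.toD X P ≅ K) {A : CommRingCat.{u}} (j : Spec A ⟶ X) [IsOpenImmersion j]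
    (M : CochainComplex (ModuleCat.{u} A) ℤ) (r : ℤ → ℕ) (a b : ℤ)
    (hr : ∀ i, i < a ∨ b < i → r i = 0) (hM : ∀ i, Nonempty (M.X i ≃ₗ[A] (Fin (r i) → A)))
    (p : ℤ) (α : DerivedCategory.Q.obj ((PerfFibreLib.tC A).obj M) ⟶ (resD j).obj K) (hα : IAE α (p - 1))
    (q : Spec A) :
    ∃ (χ : A →+* X.presheaf.stalk (j q))
      (_ : @IsLocalization.AtPrime A _ (X.presheaf.stalk (j q)) _ χ.toAlgebra q.asIdeal _),
      Module.Free (X.presheaf.stalk (j q)) (((DRingLib.extCx χ).obj M).X (p + 1)) ∧
      Nonempty (GF ((DRingLib.extCx χ).obj M) p ≅ GF ((KFlatLib.stalkCx X (j q)).obj P) p) := by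
  obtain ⟨χ, Θ, _, _, _, hloc, ⟨e₁⟩, ⟨e₂⟩⟩ := exists_stalk_tilde j q
  let E := (DRingLib.extCx χ).obj M
  have hMf : ∀ i, Module.Free A (M.X i) := fun i => Module.Free.of_equiv (hM i).some.symm
  have hEf : ∀ i, Module.Free (X.presheaf.stalk (j q)) (E.X i) := fun i => DRingLib.free_extCx χ i (hMf i)
  have hEb : ∀ i, b < i → IsZero (E.X i) := fun i hi => by
    refine (ModuleCat.extendScalars.{u, u, u} χ).map_isZero ?_
    haveI : IsEmpty (Fin (r i)) := by rw [hr i (Or.inr hi)]; infer_instance
    haveI : Subsingleton (M.X i) := (hM i).some.injective.subsingleton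
    exact ModuleCat.isZero_of_subsingleton _
  have hK : DRing.IsKFlat _ E := DRingLib.isKFlat_of_free E b hEb hEf
  haveI := DRingLib.isKProjective_of_free E b hEb hEf
  let eC : E ≅ (Θ.mapHomologicalComplex (ComplexShape.up ℤ)).obj ((PerfFibreLib.tC A).obj M) :=
    Hom.isoOfComponents (fun i => (e₂.app (M.X i)).symm)
      (fun i k _ => (e₂.inv.naturality (M.d i k)).symm)
  let eE : DerivedCategory.Q.obj E ≅ Θ.mapDerivedCategory.obj (DerivedCategory.Q.obj ((PerfFibreLib.tC A).obj M)) :=
    DerivedCategory.Q.mapIso eC ≪≫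
      (Θ.mapDerivedCategoryFactors.app _).symm
  let eP' : Θ.mapDerivedCategory.obj ((resD j).obj K) ≅
      DerivedCategory.Q.obj ((KFlatLib.stalkCx X (j q)).obj P) :=
    Θ.mapDerivedCategory.mapIso ((resD j).mapIso eP.symm ≪≫ resDQIso j P) ≪≫
      Θ.mapDerivedCategoryFactors.app _ ≪≫
      DerivedCategory.Q.mapIso (Hom.isoOfComponents (fun i => e₁.app (P.X i))
        (fun i k _ => (e₁.hom.naturality (P.d i k)).symm))
  let β := eE.hom ≫ Θ.mapDerivedCategory.map α ≫ eP'.hom
  have hβ : IAE β (p - 1) := (IAE.of_isIso _ _).comp ((hα.map Θ).comp (IAE.of_isIso _ _))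
  obtain ⟨g, hg⟩ := DRingLib.Q_map_surjective E ((KFlatLib.stalkCx X (j q)).obj P) β
  exact ⟨χ, hloc, hEf (p + 1), nonempty_GF_iso g p hK (KFlatLib.stalks_isKFlat hP _)
    (fun i hi => isZero_cone_of_IAE g (p - 1) (by rw [hg]; exact hβ) i hi)⟩

/-- Exactness at a point of a chart from a model with flat cokernels. -/
theorem shortExact_GF_of_model (P : CochainComplex X.Modules ℤ) (hP : DCoh.IsKFlat P) {K : DCoh.D X}
    (eP : DCoh.toD X P ≅ K) {A : CommRingCat.{u}} (j : Spec A ⟶ X) [IsOpenImmersion j]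
    (M : CochainComplex (ModuleCat.{u} A) ℤ) (r : ℤ → ℕ) (a b : ℤ)
    (hr : ∀ i, i < a ∨ b < i → r i = 0) (hM : ∀ i, Nonempty (M.X i ≃ₗ[A] (Fin (r i) → A)))
    (p : ℤ) (α : DerivedCategory.Q.obj ((PerfFibreLib.tC A).obj M) ⟶ (resD j).obj K) (hα : IAE α (p - 1))
    (h0 : Module.Flat A ((M.X p : Type u) ⧸ LinearMap.range (M.d (p - 1) p).hom))
    (h1 : Module.Flat A ((M.X (p + 1) : Type u) ⧸ LinearMap.range (M.d p (p + 1)).hom))
    (q : Spec A) (T : ShortComplex (ModuleCat.{u} (X.presheaf.stalk (j q)))) (hT : T.ShortExact) :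
    (T.map (GF ((KFlatLib.stalkCx X (j q)).obj P) p)).ShortExact := by
  obtain ⟨χ, _, hEf, ⟨e⟩⟩ := exists_GF_iso_model P hP eP j M r a b hr hM p α hα q
  haveI := hEf
  haveI := flat_coker_extCx χ M (p - 1) p h0
  haveI := flat_coker_extCx χ M p (p + 1) h1
  exact ShortComplex.shortExact_of_iso (T.mapNatIso e) (shortExact_GF_of_flat _ p hT)

/-- Flat cokernels from constant fibre Betti numbers over a reduced ring. -/
theorem flat_cok_of_const {A : Type u} [CommRing A] [IsReduced A] (M : PerfFibreLib.MCx A) (r : ℤ → ℕ)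
    (e : ∀ i, M.X i ≃ₗ[A] (Fin (r i) → A)) (p : ℤ)
    (hc : IsLocallyConstant fun q : PrimeSpectrum A => PerfFibreLib.beta M q p) :
    Module.Flat A (PerfFibreLib.cok M p) ∧
      Module.Flat A ((M.X (p + 1) : Type u) ⧸ LinearMap.range (M.d p (p + 1)).hom) := by
  have hM : ∀ i, Module.Finite A (M.X i) := fun i => Module.Finite.equiv (e i).symm
  have hfp : ∀ i, Module.FinitePresentation A (PerfFibreLib.cok M i) := fun i => by
    have := hM i
    have := hM (i - 1)
    haveI : Module.Free A (M.X i) := Module.Free.of_equiv (e i).symm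
    haveI := Module.finitePresentation_of_projective A (M.X i)
    refine Module.finitePresentation_of_surjective _ (Submodule.mkQ_surjective _) ?_
    rw [Submodule.ker_mkQ, LinearMap.range_eq_map]
    exact Submodule.FG.map _ Module.Finite.fg_top
  have := hM p
  have := hM (p + 1)
  have key : ∀ x y : PrimeSpectrum A, x ≤ y →
      FlatCxLib.fibreRank (PerfFibreLib.cok M p) x = FlatCxLib.fibreRank (PerfFibreLib.cok M p) y ∧
      FlatCxLib.fibreRank (PerfFibreLib.cok M (p + 1)) x = FlatCxLib.fibreRank (PerfFibreLib.cok M (p + 1)) y := by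
    intro x y hxy
    have hsp := (PrimeSpectrum.le_iff_specializes x y).1 hxy
    have hle : ∀ (N : Type u) [AddCommGroup N] [Module A N] [Module.Finite A N],
        FlatCxLib.fibreRank N x ≤ FlatCxLib.fibreRank N y := fun N _ _ _ =>
      mem_of_mem_nhds (s := {z : PrimeSpectrum A | FlatCxLib.fibreRank N z ≤ FlatCxLib.fibreRank N y})
        (hsp (FlatCxLib.eventually_fibreRank_le N y))
    have hx := PerfFibreLib.beta_add M hM p x
    have hy := PerfFibreLib.beta_add M hM p y
    rw [PerfFibreLib.fibreRank_of_free (e (p + 1))] at hx hy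
    have hh : PerfFibreLib.beta M x p = PerfFibreLib.beta M y p := (hsp.map hc.continuous).eq
    have := hle (PerfFibreLib.cok M p)
    have := hle (PerfFibreLib.cok M (p + 1))
    omega
  haveI := hfp p
  haveI := hfp (p + 1)
  haveI : Module.Projective A (PerfFibreLib.cok M p) :=
    SemiRankLib.projective_of_fibreRank_le_const _ fun x y h => (key x y h).1
  haveI : Module.Projective A (PerfFibreLib.cok M (p + 1)) :=
    SemiRankLib.projective_of_fibreRank_le_const _ fun x y h => (key x y h).2
  refine ⟨inferInstance, ?_⟩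
  have h2 : Module.Flat A ((M.X (p + 1) : Type u) ⧸ LinearMap.range (M.d (p + 1 - 1) (p + 1)).hom) :=
    inferInstanceAs (Module.Flat A (PerfFibreLib.cok M (p + 1)))
  rwa [show p + 1 - 1 = p by omega] at h2

/-- Constant Betti numbers give exactness on a reduced scheme. -/
theorem preserves_of_betti [IsReduced X] [∀ x : X, DCoh.HasLpull (X.fromSpecResidueField x)]
    (F : CochainComplex X.Modules ℤ) [DCoh.HasLTensorCx F] (p : ℤ)
    (hE : DCoh.IsPseudoCoherentD (p - 1) (DCoh.toD X F))
    (hc : IsLocallyConstant (fun x : X => PerfD.betti (DCoh.toD X F) x p)) :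
    PreservesFiniteLimits (DerivedCategory.singleFunctor X.Modules 0 ⋙ DCoh.LTensorCx F ⋙
        DerivedCategory.homologyFunctor X.Modules p) ∧
      PreservesFiniteColimits (DerivedCategory.singleFunctor X.Modules 0 ⋙ DCoh.LTensorCx F ⋙
        DerivedCategory.homologyFunctor X.Modules p) := by
  let P := (KFlatLib.resP X).obj F
  let q : P ⟶ F := (KFlatLib.resψ X).app F
  haveI : QuasiIso q := KFlatLib.quasiIso_resψ F
  have hP : DCoh.IsKFlat P := (KFlatLib.good_resP F).1
  refine preserves_of_stalks F P q hP p fun x T hT => ?_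
  obtain ⟨A, j, hj, p₀, M, r, a, b, α, hp₀, hr, hM, hα⟩ := PerfFibreLib.exists_model_pc hE x
  subst hp₀
  haveI : _root_.IsReduced A := (affine_isReduced_iff A).1 (isReduced_of_isOpenImmersion j)
  have key : ∀ z : PrimeSpectrum A, PerfD.betti (DCoh.toD X F) (j z) p = PerfFibreLib.beta M z p := fun z =>
    PerfFibreLib.betti_eq_beta _ j M r a b hr hM α hα z p (by omega)
  have hcA : IsLocallyConstant fun z : PrimeSpectrum A => PerfFibreLib.beta M z p :=
    (funext key) ▸ hc.comp_continuous j.continuous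
  obtain ⟨h0, h1⟩ := flat_cok_of_const M r (fun i => (hM i).some) p hcA
  exact shortExact_GF_of_model P hP (asIso (DerivedCategory.Q.map q)) j M r a b hr hM p α hα h0 h1 p₀ T hT

end ExactHpLib
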