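import Groth.Agent.ExactHpLib.Test
import Groth.Agent.ExactHpLib.LongExact
import Groth.Agent.TwoTermLib.LTCx
import Groth.Agent.DerCompLib.LTensorFlat
import Groth.Agent.KFlatLib.PerfectPull
import Mathlib.RingTheory.Spectrum.Prime.FreeLocus

/-!
# One-sided exactness of `M ↦ H^p(M ⊗ᴸ F)` spreads from a stalk to a neighbourhood
-/

set_option autoImplicit false
set_option linter.all false
set_option backward.isDefEq.respectTransparency false
set_option backward.isDefEq.respectTransparency.types false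
set_option maxHeartbeats 1000000

universe u

open CategoryTheory CategoryTheory.Limits AlgebraicGeometry HomologicalComplex MonoidalCategory
open Groth.Agent
open Groth.Agent.PerfLib (resD resC res resDQIso IAE)

attribute [local instance] HasDerivedCategory.standard

noncomputable section

namespace ExactHpLib

section Ring

variable {R : Type u} [CommRing R]

/-- `- ⊗ᴸ F` on modules through a K-flat replacement. -/
theorem nonempty_ring_iso (F P : CochainComplex (ModuleCat.{u} R) ℤ) (r : P ⟶ F) [QuasiIso r]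
    (hP : DRing.IsKFlat R P) [DRing.HasLTensorCx R F] (n : ℤ) :
    Nonempty (DerivedCategory.singleFunctor (ModuleCat.{u} R) 0 ⋙ DRing.LTensorCx R F ⋙
      DerivedCategory.homologyFunctor (ModuleCat.{u} R) n ≅ GF P n) := by
  let W := HomologicalComplex.quasiIso (ModuleCat.{u} R) (ComplexShape.up ℤ)
  have hinv : W.IsInvertedBy (DRing.tensorCxQ R P) := fun K L g (hg : QuasiIso g) => by
    haveI := hg
    have h : QuasiIso (KFlatLib.tMap g (𝟙 P)) := KFlatLib.quasiIso_tMap_right hP g
    have heq : (tensorRight P).map g = KFlatLib.tMap g (𝟙 P) := (tensorHom_id g P).symm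
    show IsIso (DerivedCategory.Q.map ((tensorRight P).map g))
    rw [DerivedCategory.isIso_Q_map_iff_quasiIso, heq]
    exact h
  let G := Localization.lift (DRing.tensorCxQ R P) hinv DerivedCategory.Q
  let e : DerivedCategory.Q ⋙ G ≅ DRing.tensorCxQ R P := Localization.fac _ hinv _
  let β : DerivedCategory.Q ⋙ G ⟶ DRing.tensorCxQ R F :=
    e.hom ≫ Functor.whiskerRight ((tensoringRight (CochainComplex (ModuleCat.{u} R) ℤ)).map r) DerivedCategory.Q
  haveI := Groth.Agent.DerCompLib.isRightKanExtension_of_iso_on_resolutions (fun K => DRing.IsKFlat R K) G β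
    (fun Y => ⟨(DRingLib.resP R).obj Y, (DRingLib.resψ R).app Y, (DRingLib.good_resP Y).1, by
      rw [DerivedCategory.isIso_Q_map_iff_quasiIso]
      exact DRingLib.quasiIso_resψ Y⟩)
    (fun K hK => by
      have h : QuasiIso (KFlatLib.tMap (𝟙 K) r) := KFlatLib.quasiIso_tMap_left hK r
      have heq : ((tensoringRight (CochainComplex (ModuleCat.{u} R) ℤ)).map r).app K = KFlatLib.tMap (𝟙 K) r :=
        (id_tensorHom K r).symm
      haveI : IsIso (DerivedCategory.Q.map (((tensoringRight (CochainComplex (ModuleCat.{u} R) ℤ)).map r).app K)) := by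
        rw [DerivedCategory.isIso_Q_map_iff_quasiIso, heq]
        exact h
      exact inferInstanceAs (IsIso (e.hom.app K ≫
        DerivedCategory.Q.map (((tensoringRight (CochainComplex (ModuleCat.{u} R) ℤ)).map r).app K))))
  haveI : (DRing.LTensorCx R F).IsRightKanExtension
      ((DRing.tensorCxQ R F).totalLeftDerivedCounit DerivedCategory.Q W) :=
    Functor.IsLeftDerivedFunctor.isRightKanExtension _ _ W
  let a : DerivedCategory.Q ⋙ DRing.LTensorCx R F ≅ DRing.tensorCxQ R P :=
    Functor.isoWhiskerLeft _ (Functor.rightKanExtensionUnique (DRing.LTensorCx R F)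
      ((DRing.tensorCxQ R F).totalLeftDerivedCounit DerivedCategory.Q W) G β) ≪≫ e
  let b : rT P ≅ tensorRight P := NatIso.ofComponents (fun K => Iso.refl _) fun {K L} f => by
    exact (Category.comp_id _).trans ((tensorHom_id f P).trans (Category.id_comp _).symm)
  exact ⟨Functor.isoWhiskerRight (DerivedCategory.singleFunctorIsoCompQ (ModuleCat.{u} R) 0) _ ≪≫
    Functor.associator _ _ _ ≪≫ Functor.isoWhiskerLeft _ ((Functor.associator _ _ _).symm ≪≫
      Functor.isoWhiskerRight a _ ≪≫ Functor.associator _ _ _ ≪≫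
      Functor.isoWhiskerLeft _ (DerivedCategory.homologyFunctorFactors (ModuleCat.{u} R) n)) ≪≫
    (Functor.associator _ _ _).symm ≪≫
    Functor.isoWhiskerRight (Functor.isoWhiskerLeft _ b.symm ≪≫ (asIso (tNHom P)).symm) _⟩

/-- Left exactness in degree `p` is flatness of the cokernel of the incoming differential. -/
theorem lex_GF_iff (E : CochainComplex (ModuleCat.{u} R) ℤ) (p : ℤ) (hE : ∀ n, Module.Flat R (E.X n)) :
    PreservesFiniteLimits (GF E p) ↔
      Module.Flat R ((E.X p : Type u) ⧸ LinearMap.range (E.d (p - 1) p).hom) := by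
  let a := (E.d (p - 1) p).hom
  let c := (E.d p (p + 1)).hom
  let q0 := (LinearMap.range a).mkQ
  have hk : (ComplexShape.up ℤ).next p = p + 1 := by simp
  have hj : (ComplexShape.up ℤ).prev p = p - 1 := by simp
  have comm : ∀ {N N' : ModuleCat.{u} R} (f : N →ₗ[R] N') {i j : ℤ} (φ : E.X i →ₗ[R] E.X j) (w),
      φ.lTensor N' (f.rTensor (E.X i) w) = f.rTensor (E.X j) (φ.lTensor N w) := fun f i j φ w =>
    LinearMap.congr_fun ((LinearMap.lTensor_comp_rTensor _ f φ).trans (LinearMap.rTensor_comp_lTensor _ f φ).symm) w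
  have ex0 : ∀ N : ModuleCat.{u} R, Function.Exact (a.lTensor N) (q0.lTensor N) := fun N =>
    lTensor_exact N (LinearMap.exact_map_mkQ_range a) (Submodule.mkQ_surjective _)
  haveI := hE (p + 1)
  rw [(Functor.preservesFiniteLimits_tfae (GF E p)).out 3 0 rfl rfl]
  constructor
  · intro h
    refine Module.Flat.iff_rTensor_preserves_injective_linearMap.2 fun N N' _ _ _ _ f₀ hf => ?_
    let φ : ModuleCat.of R N ⟶ ModuleCat.of R N' := ModuleCat.ofHom f₀
    haveI : Mono φ := (ModuleCat.mono_iff_injective _).2 hf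
    let S := ShortComplex.mk φ (cokernel.π φ) (cokernel.condition φ)
    have hS : S.ShortExact := { exact := ShortComplex.exact_of_g_is_cokernel _ (cokernelIsCokernel φ) }
    refine (injective_iff_map_eq_zero _).2 fun w hw => ?_
    obtain ⟨z, rfl⟩ := LinearMap.lTensor_surjective _ (Submodule.mkQ_surjective (LinearMap.range a)) w
    let L₁ := (tN E).obj S.X₁
    let L₂ := (tN E).obj S.X₂
    have h1 : q0.lTensor S.X₂ (S.f.hom.rTensor (E.X p) z) = 0 := by
      refine Eq.trans ?_ hw
      exact LinearMap.congr_fun ((LinearMap.lTensor_comp_rTensor _ S.f.hom q0).trans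
        (LinearMap.rTensor_comp_lTensor _ S.f.hom q0).symm) z
    obtain ⟨v, hv⟩ := (ex0 S.X₂ _).1 h1
    have hac : ∀ v, c.lTensor S.X₂ (a.lTensor S.X₂ v) = 0 := fun v => by
      rw [← LinearMap.comp_apply, ← LinearMap.lTensor_comp, show c ∘ₗ a = 0 by
        rw [← ModuleCat.hom_comp, E.d_comp_d]; rfl, LinearMap.lTensor_zero]
      rfl
    have hz : z ∈ LinearMap.ker (L₁.d p (p + 1)).hom := by
      refine Module.Flat.rTensor_preserves_injective_linearMap (M := (E.X (p + 1) : Type u)) S.f.hom hf ?_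
      show S.f.hom.rTensor (E.X (p + 1)) (c.lTensor S.X₁ z) = S.f.hom.rTensor (E.X (p + 1)) 0
      rw [← comm, ← hv, hac, map_zero]
    have h2 : (S.map (GF E p)).f (FlatCxLib.hcls L₁ p (p + 1) hk ⟨z, hz⟩) = 0 :=
      (FlatCxLib.homologyMap_hcls p (p + 1) hk ((tN E).map S.f) ⟨z, hz⟩).trans
        ((FlatCxLib.hcls_eq_zero_iff L₂ p (p + 1) hk (p - 1) hj _).2 ⟨v, hv⟩)
    have h3 : FlatCxLib.hcls L₁ p (p + 1) hk ⟨z, hz⟩ = 0 :=
      (ModuleCat.mono_iff_injective _).1 (h S hS).2 (h2.trans (map_zero _).symm)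
    obtain ⟨t, ht⟩ := (FlatCxLib.hcls_eq_zero_iff L₁ p (p + 1) hk (p - 1) hj _).1 h3
    exact (ex0 S.X₁ z).2 ⟨t, ht⟩
  · intro hflat S hS
    refine ⟨(shortExact_tN E hE hS).homology_exact₂ p, ?_⟩
    have hf : Function.Injective S.f.hom := (ModuleCat.mono_iff_injective _).1 hS.mono_f
    let L₁ := (tN E).obj S.X₁
    let L₂ := (tN E).obj S.X₂
    refine (ModuleCat.mono_iff_injective _).2 ((injective_iff_map_eq_zero _).2 fun h hh => ?_)
    obtain ⟨z, rfl⟩ := FlatCxLib.hcls_surjective L₁ p (p + 1) hk h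
    obtain ⟨w, hw⟩ := (FlatCxLib.hcls_eq_zero_iff L₂ p (p + 1) hk (p - 1) hj _).1
      ((FlatCxLib.homologyMap_hcls p (p + 1) hk ((tN E).map S.f) z).symm.trans hh)
    replace hw : a.lTensor S.X₂ w = S.f.hom.rTensor (E.X p) z.1 := hw
    refine (FlatCxLib.hcls_eq_zero_iff L₁ p (p + 1) hk (p - 1) hj _).2 ?_
    show z.1 ∈ LinearMap.range (a.lTensor S.X₁)
    refine (ex0 S.X₁ z.1).1 (Module.Flat.rTensor_preserves_injective_linearMap
      (M := (E.X p : Type u) ⧸ LinearMap.range a) S.f.hom hf ?_)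
    rw [map_zero]
    refine (LinearMap.congr_fun ((LinearMap.rTensor_comp_lTensor _ S.f.hom q0).trans
      (LinearMap.lTensor_comp_rTensor _ S.f.hom q0).symm) z.1).trans ?_
    show q0.lTensor S.X₂ (S.f.hom.rTensor (E.X p) z.1) = 0
    rw [← hw]
    exact (ex0 S.X₂ _).2 ⟨w, rfl⟩

end Ring

variable {X : Scheme.{u}}

/-- The stalk of `P` has flat cokernel in degree `p`. -/
def FlatCok (P : CochainComplex X.Modules ℤ) (p : ℤ) (y : X) : Prop :=
  Module.Flat (X.presheaf.stalk y) ((((KFlatLib.stalkCx X y).obj P).X p : Type u) ⧸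
    LinearMap.range (((KFlatLib.stalkCx X y).obj P).d (p - 1) p).hom)

/-- Flat cokernels spread to a neighbourhood. -/
theorem exists_open_flatCok (P : CochainComplex X.Modules ℤ) (hP : DCoh.IsKFlat P)
    (hPf : ∀ (n : ℤ) (x : X), Module.Flat (X.presheaf.stalk x) (((KFlatLib.stalkCx X x).obj P).X n))
    {K : DCoh.D X} (eP : DCoh.toD X P ≅ K) (p : ℤ) (hE : DCoh.IsPseudoCoherentD (p - 1) K)
    (x : X) (hx : FlatCok P p x) : ∃ U : X.Opens, x ∈ U ∧ ∀ y ∈ U, FlatCok P p y := by
  obtain ⟨A, j, hj, q₀, M, r, a, b, α, hq₀, hr, hM, hα⟩ := PerfFibreLib.exists_model_pc hE x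
  subst hq₀
  let N : Type u := (M.X p : Type u) ⧸ LinearMap.range (M.d (p - 1) p).hom
  haveI hfin : ∀ i, Module.Finite A (M.X i) := fun i => Module.Finite.equiv (hM i).some.symm
  haveI : Module.Free A (M.X p) := Module.Free.of_equiv (hM p).some.symm
  haveI : Module.FinitePresentation A (M.X p) := Module.finitePresentation_of_projective A (M.X p)
  haveI : Module.FinitePresentation A N := by
    refine Module.finitePresentation_of_surjective _ (Submodule.mkQ_surjective _) ?_
    rw [Submodule.ker_mkQ, LinearMap.range_eq_map]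
    exact Submodule.FG.map _ Module.Finite.fg_top
  have key : ∀ q : Spec A, FlatCok P p (j q) ↔ q ∈ Module.freeLocus A N := by
    intro q
    obtain ⟨χ, hloc, -, ⟨e⟩⟩ := exists_GF_iso_model P hP eP j M r a b hr hM p α hα q
    letI := χ.toAlgebra
    haveI : IsLocalization.AtPrime (X.presheaf.stalk (j q)) q.asIdeal := hloc
    let E := (DRingLib.extCx χ).obj M
    have hEfl : ∀ i, Module.Flat (X.presheaf.stalk (j q)) (E.X i) := fun i => by
      haveI : Module.Free (X.presheaf.stalk (j q)) (E.X i) :=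
        DRingLib.free_extCx χ i (Module.Free.of_equiv (hM i).some.symm)
      infer_instance
    let Ex := ModuleCat.extendScalars.{u, u, u} χ
    haveI : PreservesColimitsOfSize.{0, 0} Ex := (ModuleCat.extendRestrictScalarsAdj χ).leftAdjoint_preservesColimits
    let eq' := ((ModuleCat.cokernelIsoRangeQuotient (Ex.map (M.d (p - 1) p))).symm ≪≫
      (PreservesCokernel.iso Ex (M.d (p - 1) p)).symm ≪≫
        Ex.mapIso (ModuleCat.cokernelIsoRangeQuotient (M.d (p - 1) p))).toLinearEquiv
    let T : Type u := TensorProduct A (X.presheaf.stalk (j q)) N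
    have h1 : FlatCok P p (j q) ↔
        Module.Flat (X.presheaf.stalk (j q)) ((E.X p : Type u) ⧸ LinearMap.range (E.d (p - 1) p).hom) := by
      rw [FlatCok, ← lex_GF_iff _ p (fun n => hPf n (j q)), ← lex_GF_iff E p hEfl]
      exact ⟨fun h => preservesFiniteLimits_of_natIso e.symm, fun h => preservesFiniteLimits_of_natIso e⟩
    rw [h1, Module.mem_freeLocus_iff_tensor q (X.presheaf.stalk (j q))]
    refine ⟨fun h => ?_, fun h => ?_⟩
    · haveI : Module.Flat (X.presheaf.stalk (j q)) T :=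
        @Module.Flat.of_linearEquiv _ _ _ _ _ _ _ _ h eq'.symm
      exact Module.free_of_flat_of_isLocalRing
    · haveI : Module.Flat (X.presheaf.stalk (j q)) T := @Module.Flat.of_free _ _ _ _ _ h
      exact @Module.Flat.of_linearEquiv _ _ _ _ _ _ _ _ this eq'
  refine ⟨j ''ᵁ ⟨Module.freeLocus A N, Module.isOpen_freeLocus⟩, ⟨q₀, (key q₀).1 hx, rfl⟩, ?_⟩
  rintro _ ⟨q, hq, rfl⟩
  exact (key q).2 hq

theorem exists_stalk_restrict (U : X.Opens) (P : CochainComplex X.Modules ℤ) (y : (U : Scheme.{u})) :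
    Nonempty ((KFlatLib.stalkCx (U : Scheme.{u}) y).obj ((DCoh.restrictCx U).obj P) ≅
      (DRingLib.extCx (U.ι.stalkMap y).hom).obj ((KFlatLib.stalkCx X (U.ι y)).obj P)) :=
  ⟨(KFlatLib.stalkCx (U : Scheme.{u}) y).mapIso (show (DCoh.restrictCx U).obj P ≅ (KFlatLib.pullCx U.ι).obj P from
      Hom.isoOfComponents (fun n => (Scheme.Modules.restrictFunctorIsoPullback U.ι).app (P.X n))
      (fun i j _ => ((Scheme.Modules.restrictFunctorIsoPullback U.ι).hom.naturality (P.d i j)).symm)) ≪≫
    KFlatLib.stalkPullCxIso U.ι y P⟩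

theorem flat_coker_of_iso {R : Type u} [CommRing R] {K L : CochainComplex (ModuleCat.{u} R) ℤ} (e : K ≅ L) (i k : ℤ)
    (h : Module.Flat R ((L.X k : Type u) ⧸ LinearMap.range (L.d i k).hom)) :
    Module.Flat R ((K.X k : Type u) ⧸ LinearMap.range (K.d i k).hom) :=
  haveI := h
  Module.Flat.of_linearEquiv ((ModuleCat.cokernelIsoRangeQuotient (K.d i k)).symm ≪≫
    cokernel.mapIso _ _ (Hom.isoApp e i) (Hom.isoApp e k) (e.hom.comm i k).symm ≪≫
    ModuleCat.cokernelIsoRangeQuotient (L.d i k)).toLinearEquiv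

/-- Left exactness on a scheme from flat cokernels at all stalks. -/
theorem lex_Hp (P : CochainComplex X.Modules ℤ)
    (hPf : ∀ (n : ℤ) (x : X), Module.Flat (X.presheaf.stalk x) (((KFlatLib.stalkCx X x).obj P).X n))
    (p : ℤ) (h : ∀ y : X, FlatCok P p y) : PreservesFiniteLimits (Hp P p) := by
  rw [(Functor.preservesFiniteLimits_tfae (Hp P p)).out 3 0 rfl rfl]
  intro S hS
  refine ⟨(shortExact_tR P hPf hS).homology_exact₂ p, PerfCompLib.mono_of_stalks _ fun y => ?_⟩
  have hl := (lex_GF_iff _ p (fun n => hPf n y)).2 (h y)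
  haveI : Mono ((DerSch.stalkFunctor X y ⋙ GF ((KFlatLib.stalkCx X y).obj P) p).map S.f) :=
    (((Functor.preservesFiniteLimits_tfae (GF ((KFlatLib.stalkCx X y).obj P) p)).out 3 0 rfl rfl).1 hl
      (S.map (DerSch.stalkFunctor X y)) (hS.map_of_exact (DerSch.stalkFunctor X y))).2
  change Mono ((Hp P p ⋙ DerSch.stalkFunctor X y).map S.f)
  haveI h1 : Mono ((stalkHp P p y).app S.X₁).hom := IsIso.mono_of_iso _
  have h2 := @mono_comp _ _ _ _ _ ((stalkHp P p y).app S.X₁).hom h1
    ((DerSch.stalkFunctor X y ⋙ GF ((KFlatLib.stalkCx X y).obj P) p).map S.f) ‹_›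
  have h3 : Mono ((Hp P p ⋙ DerSch.stalkFunctor X y).map S.f ≫ (stalkHp P p y).hom.app S.X₂) := by
    rw [(stalkHp P p y).hom.naturality S.f]
    exact h2
  exact @mono_of_mono _ _ _ _ _ _ ((stalkHp P p y).hom.app S.X₂) h3

/-- Left exactness in degree `p` spreads from a stalk to a neighbourhood. -/
theorem exists_nhd_lex (F : CochainComplex X.Modules ℤ) (p : ℤ)
    (hE : DCoh.IsPseudoCoherentD (p - 1) (DCoh.toD X F)) (x : X)
    (P : CochainComplex X.Modules ℤ) (q : P ⟶ F) [QuasiIso q] (hP : DCoh.IsKFlat P)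
    (hPf : ∀ (n : ℤ) (x : X), Module.Flat (X.presheaf.stalk x) (((KFlatLib.stalkCx X x).obj P).X n))
    (hx : PreservesFiniteLimits (GF ((KFlatLib.stalkCx X x).obj P) p)) :
    ∃ (U : X.Opens), x ∈ U ∧ ∀ [DCoh.HasLTensorCx ((DCoh.restrictCx U).obj F)],
      PreservesFiniteLimits (DerivedCategory.singleFunctor (U : Scheme.{u}).Modules 0 ⋙
        DCoh.LTensorCx ((DCoh.restrictCx U).obj F) ⋙ DerivedCategory.homologyFunctor (U : Scheme.{u}).Modules p) ∧
      PreservesFiniteColimits (DerivedCategory.singleFunctor (U : Scheme.{u}).Modules 0 ⋙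
        DCoh.LTensorCx ((DCoh.restrictCx U).obj F) ⋙
          DerivedCategory.homologyFunctor (U : Scheme.{u}).Modules (p - 1)) := by
  obtain ⟨U, hxU, hU⟩ := exists_open_flatCok P hP hPf (asIso (DerivedCategory.Q.map q)) p hE x
    ((lex_GF_iff _ p (fun n => hPf n x)).1 hx)
  refine ⟨U, hxU, ?_⟩
  intro _
  let PU := (DCoh.restrictCx U).obj P
  let qU : PU ⟶ (DCoh.restrictCx U).obj F := (DCoh.restrictCx U).map q
  haveI : QuasiIso qU := inferInstanceAs (QuasiIso ((DCoh.restrictCx U).map q))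
  have hPU : DCoh.IsKFlat PU := KFlatLib.isKFlat_restrict U hP
  have hPUf : ∀ (n : ℤ) (y : (U : Scheme.{u})), Module.Flat ((U : Scheme.{u}).presheaf.stalk y)
      (((KFlatLib.stalkCx (U : Scheme.{u}) y).obj PU).X n) := fun n y => by
    obtain ⟨e⟩ := exists_stalk_restrict U P y
    letI := (U.ι.stalkMap y).hom.toAlgebra
    haveI := hPf n (U.ι y)
    haveI : Module.Flat ((U : Scheme.{u}).presheaf.stalk y)
        ((ModuleCat.extendScalars.{u, u, u} (U.ι.stalkMap y).hom).obj (((KFlatLib.stalkCx X (U.ι y)).obj P).X n)) :=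
      Module.Flat.baseChange (X.presheaf.stalk (U.ι y)) ((U : Scheme.{u}).presheaf.stalk y)
        (((KFlatLib.stalkCx X (U.ι y)).obj P).X n)
    exact @Module.Flat.of_linearEquiv _ _ _ _ _ _ _ _ this (Hom.isoApp e n).toLinearEquiv
  have hl : PreservesFiniteLimits (Hp PU p) := lex_Hp PU hPUf p fun y => by
    obtain ⟨e⟩ := exists_stalk_restrict U P y
    exact flat_coker_of_iso e _ _ (flat_coker_extCx (U.ι.stalkMap y).hom _ _ _ (hU (U.ι y) y.2))
  obtain ⟨e₀⟩ := nonempty_iso_Hp ((DCoh.restrictCx U).obj F) PU qU hPU (p - 1)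
  obtain ⟨e₁⟩ := nonempty_iso_Hp ((DCoh.restrictCx U).obj F) PU qU hPU p
  refine ⟨preservesFiniteLimits_of_natIso e₁.symm, ?_⟩
  have main := rightExact_iff_leftExact_succ (single (U : Scheme.{u}).Modules (ComplexShape.up ℤ) 0 ⋙ TensorAssocLib.tR PU)
    (fun S hS => shortExact_tR PU hPUf hS) (p - 1)
  rw [sub_add_cancel] at main
  haveI := main.2 hl
  exact preservesFiniteColimits_of_natIso (Functor.associator _ _ _ ≪≫ e₀.symm)

end ExactHpLib
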