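import Groth.Agent.ExactHpLib.FinFree
import Groth.Agent.ExactHpLib.QCat
import Groth.Agent.QCohLib.Push

/-!
# Local freeness from exactness on quasi-coherent modules
-/

set_option autoImplicit false
set_option linter.all false
set_option backward.isDefEq.respectTransparency false
set_option backward.isDefEq.respectTransparency.types false
set_option maxHeartbeats 1000000

universe u

open CategoryTheory CategoryTheory.Limits AlgebraicGeometry
open Groth.Agent

attribute [local instance] HasDerivedCategory.standard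

noncomputable section

namespace ExactHpLib

variable {X : Scheme.{u}}

/-- Exactness on the subcategory of quasi-coherent modules, seen in all modules. -/
theorem shortExact_map_of_qcoh (H : X.Modules ⥤ X.Modules) [H.PreservesZeroMorphisms]
    [PreservesFiniteLimits ((QCohCat.isQCoh X).ι ⋙ H)] [PreservesFiniteColimits ((QCohCat.isQCoh X).ι ⋙ H)]
    (S : ShortComplex X.Modules) (hS : S.ShortExact) (h₁ : Coh.IsQCoh S.X₁) (h₂ : Coh.IsQCoh S.X₂)
    (h₃ : Coh.IsQCoh S.X₃) : (S.map H).ShortExact := by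
  let ι := (QCohCat.isQCoh X).ι
  let f : (⟨S.X₁, h₁⟩ : QCohCat.QCoh X) ⟶ ⟨S.X₂, h₂⟩ := ObjectProperty.homMk S.f
  let g : (⟨S.X₂, h₂⟩ : QCohCat.QCoh X) ⟶ ⟨S.X₃, h₃⟩ := ObjectProperty.homMk S.g
  have w : f ≫ g = 0 := ι.map_injective (by rw [ι.map_comp, ι.map_zero]; exact S.zero)
  have hk : IsLimit (KernelFork.ofι f w) :=
    isLimitOfReflects ι ((KernelFork.isLimitMapConeEquiv (KernelFork.ofι f w) ι).symm hS.fIsKernel)
  have hc : IsColimit (CokernelCofork.ofπ g w) :=
    isColimitOfReflects ι ((CokernelCofork.isColimitMapCoconeEquiv (CokernelCofork.ofπ g w) ι).symm hS.gIsCokernel)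
  let G := (QCohCat.isQCoh X).ι ⋙ H
  haveI : G.PreservesZeroMorphisms := inferInstanceAs ((QCohCat.isQCoh X).ι ⋙ H).PreservesZeroMorphisms
  have hk' := KernelFork.mapIsLimit _ hk G
  have hc' := CokernelCofork.mapIsColimit _ hc G
  refine { exact := ShortComplex.exact_of_f_is_kernel _ hk', mono_f := ?_, epi_g := ?_ }
  · exact mono_of_isLimit_fork hk'
  · exact epi_of_isColimit_cofork hc'

/-- Exactness on quasi-coherent modules gives local freeness and locally constant Betti numbers. -/
theorem finFree_of_exact_qcoh [QuasiSeparatedSpace X] [∀ x : X, DCoh.HasLpull (X.fromSpecResidueField x)]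
    (F : CochainComplex X.Modules ℤ) [DCoh.HasLTensorCx F] (p : ℤ)
    (hE : DCoh.IsPseudoCoherentD (p - 1) (DCoh.toD X F))
    (hl : PreservesFiniteLimits ((QCohCat.isQCoh X).ι ⋙ DerivedCategory.singleFunctor X.Modules 0 ⋙
      DCoh.LTensorCx F ⋙ DerivedCategory.homologyFunctor X.Modules p))
    (hr : PreservesFiniteColimits ((QCohCat.isQCoh X).ι ⋙ DerivedCategory.singleFunctor X.Modules 0 ⋙
      DCoh.LTensorCx F ⋙ DerivedCategory.homologyFunctor X.Modules p)) :
    FlatMod.IsFinLocFree (DCoh.HD (DCoh.toD X F) p) ∧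
      IsLocallyConstant (fun x : X => PerfD.betti (DCoh.toD X F) x p) := by
  refine finFree_of_exact F p hE (fun M => Coh.IsQCoh M) ?_ ?_ ?_
  · intro M N φ h1 h2
    haveI := h1
    haveI := h2
    exact QCohLib.isQCoh_cokernel φ
  · intro A j _ N
    haveI : Coh.IsQCoh ((tilde.functor A).obj N) := inferInstanceAs ((tilde N).IsQuasicoherent)
    exact QCohLib.isQCoh_pushforward j _
  · intro H _ e S hS h1 h2 h3
    haveI : PreservesFiniteLimits ((QCohCat.isQCoh X).ι ⋙ H) :=
      preservesFiniteLimits_of_natIso (Functor.isoWhiskerLeft (QCohCat.isQCoh X).ι e)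
    haveI : PreservesFiniteColimits ((QCohCat.isQCoh X).ι ⋙ H) :=
      preservesFiniteColimits_of_natIso (Functor.isoWhiskerLeft (QCohCat.isQCoh X).ι e)
    exact shortExact_map_of_qcoh H S hS h1 h2 h3

theorem isFinLocFree_of_iso {M N : X.Modules} (e : M ≅ N) (h : FlatMod.IsFinLocFree M) :
    FlatMod.IsFinLocFree N := fun x => by
  obtain ⟨U, n, hx, ⟨eU⟩⟩ := h x
  exact ⟨U, n, hx, ⟨(Scheme.Modules.restrictFunctor U.ι).mapIso e.symm ≪≫ eU⟩⟩

end ExactHpLib
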