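import Groth.Agent.TwoTermLib.KFlatTrunc
import Groth.Agent.DRingLib.Amplitude
import Groth.Agent.FlatCxLib.Homology
import Groth.Agent.KFlatLib.Cone

/-!
# Exactness of `N ↦ H^p(N ⊗ P)` for complexes of modules
-/

set_option autoImplicit false
set_option linter.all false
set_option backward.isDefEq.respectTransparency false
set_option backward.isDefEq.respectTransparency.types false
set_option maxHeartbeats 1000000

universe u

open CategoryTheory CategoryTheory.Limits HomologicalComplex MonoidalCategory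
open Groth.Agent

attribute [local instance] HasDerivedCategory.standard

noncomputable section

namespace ExactHpLib

variable {R : Type u} [CommRing R]

/-- `N ↦ N ⊗ P`, termwise. -/
def tN (P : CochainComplex (ModuleCat.{u} R) ℤ) : ModuleCat.{u} R ⥤ CochainComplex (ModuleCat.{u} R) ℤ where
  obj N := ((tensorLeft N).mapHomologicalComplex (ComplexShape.up ℤ)).obj P
  map {N N'} f :=
    { f := fun n => f ▷ P.X n
      comm' := fun i j _ => (whisker_exchange f (P.d i j)).symm }
  map_id N := by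
    ext n : 1
    exact id_whiskerRight _ _
  map_comp f g := by
    ext n : 1
    exact comp_whiskerRight _ _ _

instance (P : CochainComplex (ModuleCat.{u} R) ℤ) : (tN P).Additive where
  map_add {N N' f g} := by
    ext n : 1
    change (f + g) ▷ P.X n = f ▷ P.X n + g ▷ P.X n
    exact MonoidalPreadditive.add_whiskerRight (C := ModuleCat.{u} R) f g

/-- `N ↦ H^p(N ⊗ P)`. -/
def GF (P : CochainComplex (ModuleCat.{u} R) ℤ) (p : ℤ) : ModuleCat.{u} R ⥤ ModuleCat.{u} R :=
  tN P ⋙ homologyFunctor _ (ComplexShape.up ℤ) p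

instance (P : CochainComplex (ModuleCat.{u} R) ℤ) (p : ℤ) : (GF P p).Additive := by
  unfold GF
  infer_instance

theorem shortExact_GF_of_flat (E : CochainComplex (ModuleCat.{u} R) ℤ) (p : ℤ)
    [Module.Flat R (E.X (p + 1))]
    [Module.Flat R ((E.X p : Type u) ⧸ LinearMap.range (E.d (p - 1) p).hom)]
    [Module.Flat R ((E.X (p + 1) : Type u) ⧸ LinearMap.range (E.d p (p + 1)).hom)]
    {S : ShortComplex (ModuleCat.{u} R)} (hS : S.ShortExact) : (S.map (GF E p)).ShortExact := by
  let a := (E.d (p - 1) p).hom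
  let c := (E.d p (p + 1)).hom
  let q0 := (LinearMap.range a).mkQ
  let q1 := (LinearMap.range c).mkQ
  have hf : Function.Injective S.f.hom := (ModuleCat.mono_iff_injective _).1 hS.mono_f
  have hg : Function.Surjective S.g.hom := (ModuleCat.epi_iff_surjective _).1 hS.epi_g
  have hfg : Function.Exact S.f.hom S.g.hom :=
    (ShortComplex.ShortExact.moduleCat_exact_iff_function_exact S).1 hS.exact
  have hk : (ComplexShape.up ℤ).next p = p + 1 := by simp
  have hj : (ComplexShape.up ℤ).prev p = p - 1 := by simp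
  let L₁ := (tN E).obj S.X₁
  let L₂ := (tN E).obj S.X₂
  let L₃ := (tN E).obj S.X₃
  let cl := fun (L : CochainComplex (ModuleCat.{u} R) ℤ) => FlatCxLib.hcls L p (p + 1) hk
  have hmf : ∀ z : LinearMap.ker (L₁.d p (p + 1)).hom,
      (S.map (GF E p)).f (cl L₁ z) = cl L₂ ⟨(S.f.hom.rTensor (E.X p)) z.1,
        FlatCxLib.map_mem_ker p (p + 1) ((tN E).map S.f) z⟩ :=
    FlatCxLib.homologyMap_hcls p (p + 1) hk ((tN E).map S.f)
  have hmg : ∀ z : LinearMap.ker (L₂.d p (p + 1)).hom,
      (S.map (GF E p)).g (cl L₂ z) = cl L₃ ⟨(S.g.hom.rTensor (E.X p)) z.1,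
        FlatCxLib.map_mem_ker p (p + 1) ((tN E).map S.g) z⟩ :=
    FlatCxLib.homologyMap_hcls p (p + 1) hk ((tN E).map S.g)
  have comm : ∀ {N N' : ModuleCat.{u} R} (f : N →ₗ[R] N') {i j : ℤ} (φ : E.X i →ₗ[R] E.X j) (w),
      φ.lTensor N' (f.rTensor (E.X i) w) = f.rTensor (E.X j) (φ.lTensor N w) := fun f i j φ w =>
    LinearMap.congr_fun ((LinearMap.lTensor_comp_rTensor _ f φ).trans (LinearMap.rTensor_comp_lTensor _ f φ).symm) w
  have ex0 : ∀ N : ModuleCat.{u} R, Function.Exact (a.lTensor N) (q0.lTensor N) := fun N =>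
    lTensor_exact N (LinearMap.exact_map_mkQ_range a) (Submodule.mkQ_surjective _)
  have ex1 : ∀ N : ModuleCat.{u} R, Function.Exact (c.lTensor N) (q1.lTensor N) := fun N =>
    lTensor_exact N (LinearMap.exact_map_mkQ_range c) (Submodule.mkQ_surjective _)
  have hmono : Mono (S.map (GF E p)).f := by
    refine (ModuleCat.mono_iff_injective _).2 ((injective_iff_map_eq_zero _).2 fun h hh => ?_)
    obtain ⟨z, rfl⟩ := FlatCxLib.hcls_surjective L₁ p (p + 1) hk h
    rw [hmf z] at hh
    obtain ⟨w, hw⟩ := (FlatCxLib.hcls_eq_zero_iff L₂ p (p + 1) hk (p - 1) hj _).1 hh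
    replace hw : a.lTensor S.X₂ w = S.f.hom.rTensor (E.X p) z.1 := hw
    refine (FlatCxLib.hcls_eq_zero_iff L₁ p (p + 1) hk (p - 1) hj _).2 ?_
    show z.1 ∈ LinearMap.range (a.lTensor S.X₁)
    refine (ex0 S.X₁ z.1).1 (Module.Flat.rTensor_preserves_injective_linearMap
      (M := (E.X p : Type u) ⧸ LinearMap.range a) S.f.hom hf ?_)
    rw [map_zero]
    have := LinearMap.congr_fun ((LinearMap.rTensor_comp_lTensor _ S.f.hom q0).trans
      (LinearMap.lTensor_comp_rTensor _ S.f.hom q0).symm) z.1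
    refine this.trans ?_
    show q0.lTensor S.X₂ (S.f.hom.rTensor (E.X p) z.1) = 0
    rw [← hw]
    exact (ex0 S.X₂ _).2 ⟨w, rfl⟩
  have hepi : Epi (S.map (GF E p)).g := by
    refine (ModuleCat.epi_iff_surjective _).2 fun h => ?_
    obtain ⟨z, rfl⟩ := FlatCxLib.hcls_surjective L₃ p (p + 1) hk h
    obtain ⟨y, hy⟩ := LinearMap.rTensor_surjective (E.X p) hg z.1
    have hz : c.lTensor S.X₃ z.1 = 0 := z.2
    have h1 : S.g.hom.rTensor (E.X (p + 1)) (c.lTensor S.X₂ y) = 0 := by
      rw [← comm, hy, hz]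
    obtain ⟨u, hu⟩ := (rTensor_exact (E.X (p + 1)) hfg hg _).1 h1
    have h2 : q1.lTensor S.X₁ u = 0 := by
      refine Module.Flat.rTensor_preserves_injective_linearMap
        (M := (E.X (p + 1) : Type u) ⧸ LinearMap.range c) S.f.hom hf ?_
      rw [map_zero]
      refine (LinearMap.congr_fun ((LinearMap.rTensor_comp_lTensor _ S.f.hom q1).trans
        (LinearMap.lTensor_comp_rTensor _ S.f.hom q1).symm) u).trans ?_
      show q1.lTensor S.X₂ (S.f.hom.rTensor (E.X (p + 1)) u) = 0
      rw [hu]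
      exact (ex1 S.X₂ _).2 ⟨y, rfl⟩
    obtain ⟨v, hv⟩ := (ex1 S.X₁ u).1 h2
    let y' := y - S.f.hom.rTensor (E.X p) v
    have hy' : y' ∈ LinearMap.ker (L₂.d p (p + 1)).hom := by
      show c.lTensor S.X₂ (y - S.f.hom.rTensor (E.X p) v) = 0
      rw [map_sub, comm, hv, hu, sub_self]
    refine ⟨cl L₂ ⟨y', hy'⟩, (hmg ⟨y', hy'⟩).trans (congrArg (cl L₃) (Subtype.ext ?_))⟩
    show S.g.hom.rTensor (E.X p) (y - S.f.hom.rTensor (E.X p) v) = z.1
    rw [map_sub, hy, (rTensor_exact (E.X p) hfg hg _).2 ⟨v, rfl⟩, sub_zero]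
  have hexact : (S.map (GF E p)).Exact := by
    rw [ShortComplex.moduleCat_exact_iff]
    intro h hh
    obtain ⟨z, rfl⟩ := FlatCxLib.hcls_surjective L₂ p (p + 1) hk h
    rw [hmg z] at hh
    obtain ⟨w'', hw''⟩ := (FlatCxLib.hcls_eq_zero_iff L₃ p (p + 1) hk (p - 1) hj _).1 hh
    replace hw'' : a.lTensor S.X₃ w'' = S.g.hom.rTensor (E.X p) z.1 := hw''
    obtain ⟨w, hw⟩ := LinearMap.rTensor_surjective (E.X (p - 1)) hg w''
    let zz : TensorProduct R S.X₂ (E.X p) := z.1
    have h1 : S.g.hom.rTensor (E.X p) (zz - a.lTensor S.X₂ w) = 0 := by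
      rw [map_sub, ← comm, hw, hw'', sub_self]
    obtain ⟨u, hu⟩ := (rTensor_exact (E.X p) hfg hg _).1 h1
    have hac : ∀ v, c.lTensor S.X₂ (a.lTensor S.X₂ v) = 0 := fun v => by
      rw [← LinearMap.comp_apply, ← LinearMap.lTensor_comp, show c ∘ₗ a = 0 by
        rw [← ModuleCat.hom_comp, E.d_comp_d]; rfl, LinearMap.lTensor_zero]
      rfl
    have hu' : u ∈ LinearMap.ker (L₁.d p (p + 1)).hom := by
      refine Module.Flat.rTensor_preserves_injective_linearMap (M := (E.X (p + 1) : Type u)) S.f.hom hf ?_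
      show S.f.hom.rTensor (E.X (p + 1)) (c.lTensor S.X₁ u) = S.f.hom.rTensor (E.X (p + 1)) 0
      rw [← comm, hu, map_sub, hac, sub_zero, map_zero]
      exact z.2
    refine ⟨cl L₁ ⟨u, hu'⟩, (hmf ⟨u, hu'⟩).trans (sub_eq_zero.1 (((cl L₂).map_sub _ _).symm.trans ?_))⟩
    refine (FlatCxLib.hcls_eq_zero_iff L₂ p (p + 1) hk (p - 1) hj _).2 ⟨-w, ?_⟩
    show a.lTensor S.X₂ (-w) = S.f.hom.rTensor (E.X p) u - zz
    rw [hu, map_neg]
    abel
  exact ShortComplex.ShortExact.mk' hexact hmono hepi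

/-- A map with cone acyclic from degree `p - 1` does not change `N ↦ H^p(N ⊗ P)`. -/
theorem nonempty_GF_iso {E P : CochainComplex (ModuleCat.{u} R) ℤ} (g : E ⟶ P) (p : ℤ)
    (hE : DRing.IsKFlat R E) (hP : DRing.IsKFlat R P)
    (hg : ∀ i, p - 1 ≤ i → IsZero ((CochainComplex.mappingCone g).homology i)) :
    Nonempty (GF E p ≅ GF P p) := by
  let C := CochainComplex.mappingCone g
  have hC : DRing.IsKFlat R C := KFlatLib.isKFlat_mappingCone hE hP g
  obtain ⟨F, hFb, hFf, ⟨eF⟩⟩ := DRingLib.exists_free_rep (DerivedCategory.Q.obj C) (p - 2)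
    fun i hi => DRingLib.isZero_Hn_of_homology (hg i (by omega))
  haveI := DRingLib.isKProjective_of_free F (p - 2) hFb hFf
  obtain ⟨s, hs⟩ := DRingLib.exists_qis_of_iso F C eF
  let α : tN E ⟶ tN P :=
    { app := fun N => ((tensorLeft N).mapHomologicalComplex (ComplexShape.up ℤ)).map g
      naturality := fun N N' f => by
        ext n : 1
        exact (whisker_exchange f (g.f n)).symm }
  have hiso : ∀ N, IsIso ((homologyFunctor _ (ComplexShape.up ℤ) p).map (α.app N)) := fun N => by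
    let G := tensorLeft N
    haveI : QuasiIso ((G.mapHomologicalComplex (ComplexShape.up ℤ)).map s) :=
      KFlatLib.quasiIso_map_of_cone G s (KFlatLib.acyclic_tensorLeft
        (KFlatLib.isKFlat_mappingCone (DRingLib.isKFlat_of_free F (p - 2) hFb hFf) hC s)
        ((KFlatLib.acyclic_cone_iff s).mpr inferInstance) N)
    have hz : ∀ i, p - 1 ≤ i → IsZero (((G.mapHomologicalComplex (ComplexShape.up ℤ)).obj C).homology i) :=
      fun i hi => by
      have := (quasiIsoAt_iff_isIso_homologyMap _ _).mp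
        (QuasiIso.quasiIsoAt (f := (G.mapHomologicalComplex (ComplexShape.up ℤ)).map s) i)
      refine ((exactAt_iff_isZero_homology _ i).1 ?_).of_iso
        (asIso (homologyMap ((G.mapHomologicalComplex (ComplexShape.up ℤ)).map s) i)).symm
      exact ShortComplex.exact_of_isZero_X₂ _ (G.map_isZero (hFb i (by omega)))
    let φ := (G.mapHomologicalComplex (ComplexShape.up ℤ)).map g
    have hzc : ∀ i, p - 1 ≤ i → IsZero ((CochainComplex.mappingCone φ).homology i) := fun i hi =>
      (hz i hi).of_iso ((homologyFunctor _ _ i).mapIso (CochainComplex.mappingCone.mapHomologicalComplexIso g G).symm)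
    let T := DerivedCategory.Q.mapTriangle.obj (CochainComplex.mappingCone.triangle φ)
    have hT : T ∈ Pretriangulated.distinguishedTriangles := DerivedCategory.mappingCone_triangle_distinguished φ
    have h3 : ∀ i, p - 1 ≤ i → IsZero ((DerivedCategory.homologyFunctor (ModuleCat.{u} R) i).obj T.obj₃) :=
      fun i hi => (hzc i hi).of_iso ((DerivedCategory.homologyFunctorFactors _ i).app _)
    have hm : Mono ((DerivedCategory.homologyFunctor (ModuleCat.{u} R) p).map T.mor₁) :=
      (DerivedCategory.HomologySequence.mono_homologyMap_mor₁_iff T hT (p - 1) p (by omega)).mpr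
        ((h3 (p - 1) le_rfl).eq_of_src _ _)
    have he : Epi ((DerivedCategory.homologyFunctor (ModuleCat.{u} R) p).map T.mor₁) :=
      (DerivedCategory.HomologySequence.epi_homologyMap_mor₁_iff T hT p).mpr
        ((h3 p (by omega)).eq_of_tgt _ _)
    have := isIso_of_mono_of_epi ((DerivedCategory.homologyFunctor (ModuleCat.{u} R) p).map T.mor₁)
    exact (NatIso.isIso_map_iff (DerivedCategory.homologyFunctorFactors (ModuleCat.{u} R) p) φ).mp this
  haveI : ∀ N, IsIso ((Functor.whiskerRight α (homologyFunctor _ (ComplexShape.up ℤ) p)).app N) := hiso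
  haveI := NatIso.isIso_of_isIso_app (Functor.whiskerRight α (homologyFunctor _ (ComplexShape.up ℤ) p))
  exact ⟨asIso (Functor.whiskerRight α (homologyFunctor _ (ComplexShape.up ℤ) p))⟩

/-- Exactness of `N ↦ H^p(N ⊗ P)` transported along a map whose cone is acyclic from degree `p - 1`. -/
theorem shortExact_GF_of_map {E P : CochainComplex (ModuleCat.{u} R) ℤ} (g : E ⟶ P) (p : ℤ)
    (hE : DRing.IsKFlat R E) (hP : DRing.IsKFlat R P)
    (hg : ∀ i, p - 1 ≤ i → IsZero ((CochainComplex.mappingCone g).homology i))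
    {S : ShortComplex (ModuleCat.{u} R)} (h : (S.map (GF E p)).ShortExact) :
    (S.map (GF P p)).ShortExact := by
  obtain ⟨e⟩ := nonempty_GF_iso g p hE hP hg
  exact ShortComplex.shortExact_of_iso (S.mapNatIso e) h

end ExactHpLib
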