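import Groth.Agent.ExactHpLib.Ring
import Groth.Agent.KFlatLib.StalkCx
import Groth.Agent.TensorAssocLib.Derived
import Groth.Agent.PerfDualLib.Derived
import Groth.Agent.PerfCompLib.ExtZero
import Groth.Agent.DerLib.ExactHomology

/-!
# Exactness of `M ↦ H^p(M ⊗ᴸ F)` on stalks
-/

set_option autoImplicit false
set_option linter.all false
set_option backward.isDefEq.respectTransparency false
set_option backward.isDefEq.respectTransparency.types false
set_option maxHeartbeats 1000000

universe u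

open CategoryTheory CategoryTheory.Limits AlgebraicGeometry HomologicalComplex MonoidalCategory
open Groth.Agent

attribute [local instance] HasDerivedCategory.standard

noncomputable section

namespace ExactHpLib

section Ring

variable {R : Type u} [CommRing R]

/-- `L ↦ L ⊗ P` on complexes. -/
abbrev rT (P : CochainComplex (ModuleCat.{u} R) ℤ) :
    CochainComplex (ModuleCat.{u} R) ℤ ⥤ CochainComplex (ModuleCat.{u} R) ℤ :=
  ((curriedTensor (ModuleCat.{u} R)).map₂CochainComplex).flip.obj P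

/-- `N ⊗ P ≅ N[0] ⊗ P`, naturally. -/
def tNHom (P : CochainComplex (ModuleCat.{u} R) ℤ) :
    tN P ⟶ single (ModuleCat.{u} R) (ComplexShape.up ℤ) 0 ⋙ rT P where
  app N :=
    { f := fun n => ((singleObjXSelf (ComplexShape.up ℤ) 0 N).inv ▷ P.X n) ≫
        KFlatLib.ιT ((single (ModuleCat.{u} R) (ComplexShape.up ℤ) 0).obj N) P 0 n n (zero_add n)
      comm' := fun n n' hn => by
        obtain rfl : n + 1 = n' := hn
        let N₀ := (single (ModuleCat.{u} R) (ComplexShape.up ℤ) 0).obj N
        have hd : N₀.d 0 (0 + 1) = 0 :=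
          (isZero_single_obj_X (ComplexShape.up ℤ) 0 N (0 + 1) (by omega)).eq_of_tgt _ _
        have h := KFlatLib.ιT_d N₀ P 0 n n (n + 1) (zero_add n) rfl
        rw [hd, MonoidalPreadditive.zero_whiskerRight, zero_comp, zero_add, Int.negOnePow_zero,
          one_smul] at h
        change ((singleObjXSelf (ComplexShape.up ℤ) 0 N).inv ▷ P.X n ≫ _) ≫ (KFlatLib.tT N₀ P).d n (n + 1) =
          (N ◁ P.d n (n + 1)) ≫ (singleObjXSelf (ComplexShape.up ℤ) 0 N).inv ▷ P.X (n + 1) ≫ _
        rw [Category.assoc, whisker_exchange_assoc]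
        exact congrArg _ h }
  naturality N N' f := by
    ext n : 1
    change f ▷ P.X n ≫ (singleObjXSelf (ComplexShape.up ℤ) 0 N').inv ▷ P.X n ≫ _ =
      ((singleObjXSelf (ComplexShape.up ℤ) 0 N).inv ▷ P.X n ≫ _) ≫
        (KFlatLib.tMap ((single (ModuleCat.{u} R) (ComplexShape.up ℤ) 0).map f) (𝟙 P)).f n
    rw [Category.assoc, KFlatLib.ιT_tMap, HomologicalComplex.id_f, tensorHom_id, ← comp_whiskerRight_assoc,
      ← comp_whiskerRight_assoc]
    congr 2

theorem isIso_ι_single (P : CochainComplex (ModuleCat.{u} R) ℤ) (N : ModuleCat.{u} R) (n : ℤ) :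
    IsIso (KFlatLib.ιT ((single (ModuleCat.{u} R) (ComplexShape.up ℤ) 0).obj N) P 0 n n (zero_add n)) := by
  refine ⟨KFlatLib.proj 0 n n (zero_add n), KFlatLib.ιT_proj _ _ _ _, ?_⟩
  refine mapBifunctor.hom_ext fun p q h => ?_
  by_cases hp : p = 0
  · subst hp
    obtain rfl : q = n := by
      have : (0 : ℤ) + q = n := h
      omega
    rw [← Category.assoc]
    exact (congrArg (· ≫ _) (KFlatLib.ιT_proj _ _ _ _)).trans
      ((Category.id_comp _).trans (Category.comp_id _).symm)
  · exact ((tensorRight (P.X q)).map_isZero (isZero_single_obj_X (ComplexShape.up ℤ) 0 N p hp)).eq_of_src _ _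

instance isIso_tNHom (P : CochainComplex (ModuleCat.{u} R) ℤ) : IsIso (tNHom P) := by
  haveI : ∀ N, IsIso ((tNHom P).app N) := fun N => by
    haveI : ∀ n, IsIso (((tNHom P).app N).f n) := fun n => by
      haveI := isIso_ι_single P N n
      exact inferInstanceAs (IsIso (((singleObjXSelf (ComplexShape.up ℤ) 0 N).inv ▷ P.X n) ≫ _))
    exact HomologicalComplex.Hom.isIso_of_components _
  exact NatIso.isIso_of_isIso_app _

end Ring

variable {X : Scheme.{u}}

/-- `M ↦ H^p(M[0] ⊗ P)`. -/
abbrev Hp (P : CochainComplex X.Modules ℤ) (p : ℤ) : X.Modules ⥤ X.Modules :=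
  single X.Modules (ComplexShape.up ℤ) 0 ⋙ TensorAssocLib.tR P ⋙
    homologyFunctor X.Modules (ComplexShape.up ℤ) p

/-- Stalks of `M[0] ⊗ P`. -/
def stalkTR (P : CochainComplex X.Modules ℤ) (x : X) :
    TensorAssocLib.tR P ⋙ KFlatLib.stalkCx X x ≅
      KFlatLib.stalkCx X x ⋙ rT ((KFlatLib.stalkCx X x).obj P) :=
  (NatIso.ofComponents (fun L => KFlatLib.stalkTensorCxIso x L P) fun {L L'} f => by
    have h := KFlatLib.stalkTensorCxIso_natural x f (𝟙 P)
    rw [CategoryTheory.Functor.map_id] at h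
    exact h).symm

/-- Stalks of `H^p(M[0] ⊗ P)`. -/
def stalkHp (P : CochainComplex X.Modules ℤ) (p : ℤ) (x : X) :
    Hp P p ⋙ DerSch.stalkFunctor X x ≅ DerSch.stalkFunctor X x ⋙ GF ((KFlatLib.stalkCx X x).obj P) p :=
  Functor.associator _ _ _ ≪≫ Functor.isoWhiskerLeft _ (Functor.associator _ _ _ ≪≫
    Functor.isoWhiskerLeft _ (DerLib.ExactHomology.mapHomologyFunctorIso (DerSch.stalkFunctor X x) p).symm ≪≫
    (Functor.associator _ _ _).symm ≪≫ Functor.isoWhiskerRight (stalkTR P x) _ ≪≫ Functor.associator _ _ _) ≪≫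
  (Functor.associator _ _ _).symm ≪≫
  Functor.isoWhiskerRight (singleMapHomologicalComplex (DerSch.stalkFunctor X x) (ComplexShape.up ℤ) 0) _ ≪≫
  Functor.associator _ _ _ ≪≫
  Functor.isoWhiskerLeft _ ((Functor.associator _ _ _).symm ≪≫
    Functor.isoWhiskerRight (asIso (tNHom ((KFlatLib.stalkCx X x).obj P))).symm _)

theorem shortExact_Hp (P : CochainComplex X.Modules ℤ) (p : ℤ)
    (h : ∀ (x : X) (T : ShortComplex (ModuleCat.{u} (X.presheaf.stalk x))), T.ShortExact →
      (T.map (GF ((KFlatLib.stalkCx X x).obj P) p)).ShortExact)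
    {S : ShortComplex X.Modules} (hS : S.ShortExact) : (S.map (Hp P p)).ShortExact :=
  PerfCompLib.shortExact_of_stalks _ fun x =>
    ShortComplex.shortExact_of_iso (S.mapNatIso (stalkHp P p x)).symm
      (h x _ (hS.map_of_exact (DerSch.stalkFunctor X x)))

/-- The derived functor is computed by a K-flat representative. -/
theorem nonempty_iso_Hp (F P : CochainComplex X.Modules ℤ) (q : P ⟶ F) [QuasiIso q] (hP : DCoh.IsKFlat P)
    [DCoh.HasLTensorCx F] (p : ℤ) :
    Nonempty (DerivedCategory.singleFunctor X.Modules 0 ⋙ DCoh.LTensorCx F ⋙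
      DerivedCategory.homologyFunctor X.Modules p ≅ Hp P p) := by
  haveI := KFlatLib.hasLTensorCx P
  obtain ⟨a⟩ := PerfDualLib.nonempty_lTensor_congr q
  haveI : ∀ K, IsIso ((TensorAssocLib.cnt P).app K) := TensorAssocLib.isIso_cnt P hP
  haveI := NatIso.isIso_of_isIso_app (TensorAssocLib.cnt P)
  exact ⟨Functor.isoWhiskerRight (DerivedCategory.singleFunctorIsoCompQ X.Modules 0) _ ≪≫
    Functor.associator _ _ _ ≪≫ Functor.isoWhiskerLeft _
      ((Functor.isoWhiskerLeft _ (Functor.isoWhiskerRight a.symm _)) ≪≫ (Functor.associator _ _ _).symm ≪≫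
        Functor.isoWhiskerRight (asIso (TensorAssocLib.cnt P)) _ ≪≫ Functor.associator _ _ _ ≪≫
        Functor.isoWhiskerLeft _ (DerivedCategory.homologyFunctorFactors X.Modules p))⟩

/-- Exactness from exactness on stalks of a K-flat representative. -/
theorem preserves_of_stalks (F P : CochainComplex X.Modules ℤ) (q : P ⟶ F) [QuasiIso q] (hP : DCoh.IsKFlat P)
    [DCoh.HasLTensorCx F] (p : ℤ)
    (h : ∀ (x : X) (T : ShortComplex (ModuleCat.{u} (X.presheaf.stalk x))), T.ShortExact →
      (T.map (GF ((KFlatLib.stalkCx X x).obj P) p)).ShortExact) :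
    PreservesFiniteLimits (DerivedCategory.singleFunctor X.Modules 0 ⋙ DCoh.LTensorCx F ⋙
        DerivedCategory.homologyFunctor X.Modules p) ∧
      PreservesFiniteColimits (DerivedCategory.singleFunctor X.Modules 0 ⋙ DCoh.LTensorCx F ⋙
        DerivedCategory.homologyFunctor X.Modules p) := by
  obtain ⟨e⟩ := nonempty_iso_Hp F P q hP p
  obtain ⟨h1, h2⟩ := ((Functor.exact_tfae (Hp P p)).out 0 3).1 (fun S hS => shortExact_Hp P p h hS)
  exact ⟨preservesFiniteLimits_of_natIso e.symm, preservesFiniteColimits_of_natIso e.symm⟩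

end ExactHpLib
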