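import Groth.Agent.ExactHpLib.Model
import Groth.Agent.ExactHpLib.Converse
import Groth.Agent.FlatRelPCLib.Basic
import Groth.Agent.MiscFlat6.TildeFin
import Groth.Agent.PerfFibreLib.OpenLocus

/-!
# Flat cokernels and local freeness from exactness
-/

set_option autoImplicit false
set_option linter.all false
set_option backward.isDefEq.respectTransparency false
set_option backward.isDefEq.respectTransparency.types false
set_option maxHeartbeats 1000000

universe u

open CategoryTheory CategoryTheory.Limits AlgebraicGeometry HomologicalComplex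
open Groth.Agent
open Groth.Agent.PerfLib (resD resC res resDQIso IAE)

attribute [local instance] HasDerivedCategory.standard

noncomputable section

namespace ExactHpLib

variable {X : Scheme.{u}}

/-- Exactness on test modules gives exactness on stalks. -/
theorem shortExact_GF_stalk (P : CochainComplex X.Modules ℤ) (p : ℤ) (Q : X.Modules → Prop)
    (hQc : ∀ {M N : X.Modules} (φ : M ⟶ N), Q M → Q N → Q (cokernel φ))
    (h : ∀ S : ShortComplex X.Modules, S.ShortExact → Q S.X₁ → Q S.X₂ → Q S.X₃ → (S.map (Hp P p)).ShortExact)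
    {A : CommRingCat.{u}} (j : Spec A ⟶ X) [IsOpenImmersion j]
    (hQj : ∀ N : ModuleCat.{u} A, Q ((Scheme.Modules.pushforward j).obj ((tilde.functor A).obj N)))
    (q : Spec A) (T : ShortComplex (ModuleCat.{u} (X.presheaf.stalk (j q)))) (hT : T.ShortExact) :
    (T.map (GF ((KFlatLib.stalkCx X (j q)).obj P) p)).ShortExact := by
  obtain ⟨χ, Θ, _, _, _, hloc, ⟨e₁⟩, ⟨e₂⟩⟩ := exists_stalk_tilde j q
  haveI : PreservesFiniteLimits (tilde.functor A) := FlatRelPCLib.tildeExact A
  let G := ModuleCat.restrictScalars.{u} χ ⋙ tilde.functor A ⋙ Scheme.Modules.pushforward j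
  let adj := ModuleCat.extendRestrictScalarsAdj.{u, u, u} χ
  haveI : (ModuleCat.restrictScalars.{u} χ).Full := ⟨fun {M N} f => by
    letI := χ.toAlgebra
    letI : Module A M := Module.compHom M χ
    letI : Module A N := Module.compHom N χ
    haveI : IsScalarTower A (X.presheaf.stalk (j q)) M := IsScalarTower.of_algebraMap_smul fun _ _ => rfl
    haveI : IsScalarTower A (X.presheaf.stalk (j q)) N := IsScalarTower.of_algebraMap_smul fun _ _ => rfl
    haveI : IsLocalization q.asIdeal.primeCompl (X.presheaf.stalk (j q)) := hloc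
    exact ⟨ModuleCat.ofHom (LinearMap.extendScalarsOfIsLocalization q.asIdeal.primeCompl
      (X.presheaf.stalk (j q)) f.hom), rfl⟩⟩
  haveI : IsIso adj.counit := adj.counit_isIso_of_R_fully_faithful
  let ε : G ⋙ DerSch.stalkFunctor X (j q) ≅ 𝟭 _ :=
    Functor.isoWhiskerLeft G e₁.symm ≪≫ Functor.associator _ _ _ ≪≫
      Functor.isoWhiskerLeft _ (Functor.associator _ _ _ ≪≫
        Functor.isoWhiskerLeft (tilde.functor A) ((Functor.associator _ _ _).symm ≪≫
          Functor.isoWhiskerRight (asIso (Scheme.Modules.restrictAdjunction j).counit) _ ≪≫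
          Functor.leftUnitor _) ≪≫ e₂) ≪≫ asIso adj.counit
  haveI := hT.mono_f
  haveI : PreservesFiniteLimits G := by
    haveI : PreservesLimitsOfSize.{0, 0} (Scheme.Modules.pushforward j) :=
      (Scheme.Modules.pullbackPushforwardAdjunction j).rightAdjoint_preservesLimits
    haveI : PreservesLimitsOfSize.{0, 0} (ModuleCat.restrictScalars.{u} χ) := adj.rightAdjoint_preservesLimits
    exact comp_preservesFiniteLimits _ _
  let S := ShortComplex.mk (G.map T.f) (cokernel.π (G.map T.f)) (cokernel.condition _)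
  have hS : S.ShortExact := { exact := ShortComplex.exact_of_g_is_cokernel _ (cokernelIsCokernel (G.map T.f)) }
  let st := DerSch.stalkFunctor X (j q)
  have hst : (S.map st).ShortExact := hS.map_of_exact st
  let c := cokernel.mapIso (st.map (G.map T.f)) T.f (ε.app T.X₁) (ε.app T.X₂) (ε.hom.naturality T.f)
  let a := IsColimit.coconePointUniqueUpToIso hst.gIsCokernel (cokernelIsCokernel (st.map (G.map T.f)))
  let b := IsColimit.coconePointUniqueUpToIso hT.gIsCokernel (cokernelIsCokernel T.f)
  have ha : (S.map st).g ≫ a.hom = cokernel.π (st.map (G.map T.f)) :=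
    IsColimit.comp_coconePointUniqueUpToIso_hom hst.gIsCokernel _ WalkingParallelPair.one
  have hb : T.g ≫ b.hom = cokernel.π T.f :=
    IsColimit.comp_coconePointUniqueUpToIso_hom hT.gIsCokernel _ WalkingParallelPair.one
  have hb' : cokernel.π T.f ≫ b.inv = T.g := by
    rw [← cancel_mono b.hom, Category.assoc, Iso.inv_hom_id, Category.comp_id, hb]
  let eT : S.map st ≅ T := ShortComplex.isoMk (ε.app T.X₁) (ε.app T.X₂) (a ≪≫ c ≪≫ b.symm)
    (ε.hom.naturality T.f).symm (by
      simp only [Iso.trans_hom, Iso.symm_hom]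
      rw [← Category.assoc, ← Category.assoc, ha]
      simp [c, hb'])
  exact ShortComplex.shortExact_of_iso
    ((S.mapNatIso (stalkHp P p (j q))) ≪≫ (GF ((KFlatLib.stalkCx X (j q)).obj P) p).mapShortComplex.mapIso eT)
    ((h S hS (hQj _) (hQj _) (hQc _ (hQj _) (hQj _))).map_of_exact st)

theorem flat_of_flat_ext {A R : Type u} [CommRing A] [CommRing R] (χ : A →+* R)
    (M : CochainComplex (ModuleCat.{u} A) ℤ) (i k : ℤ)
    (h : Module.Flat R ((((DRingLib.extCx χ).obj M).X k : Type u) ⧸
      LinearMap.range (((DRingLib.extCx χ).obj M).d i k).hom)) :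
    letI := χ.toAlgebra; Module.Flat R (TensorProduct A R ((M.X k : Type u) ⧸ LinearMap.range (M.d i k).hom)) := by
  letI := χ.toAlgebra
  let E := ModuleCat.extendScalars.{u, u, u} χ
  haveI : PreservesColimitsOfSize.{0, 0} E := (ModuleCat.extendRestrictScalarsAdj χ).leftAdjoint_preservesColimits
  let e := (ModuleCat.cokernelIsoRangeQuotient (E.map (M.d i k))).symm ≪≫
    (PreservesCokernel.iso E (M.d i k)).symm ≪≫ E.mapIso (ModuleCat.cokernelIsoRangeQuotient (M.d i k))
  exact @Module.Flat.of_linearEquiv R _ _ _ _ _ _ _ h e.toLinearEquiv.symm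

/-- Flat cokernels of a model. -/
theorem flat_cok_of_exact (P : CochainComplex X.Modules ℤ) (hP : DCoh.IsKFlat P) {K : DCoh.D X}
    (eP : DCoh.toD X P ≅ K) {A : CommRingCat.{u}} (j : Spec A ⟶ X) [IsOpenImmersion j]
    (M : CochainComplex (ModuleCat.{u} A) ℤ) (r : ℤ → ℕ) (a b : ℤ)
    (hr : ∀ i, i < a ∨ b < i → r i = 0) (hM : ∀ i, Nonempty (M.X i ≃ₗ[A] (Fin (r i) → A)))
    (p : ℤ) (α : DerivedCategory.Q.obj ((PerfFibreLib.tC A).obj M) ⟶ (resD j).obj K) (hα : IAE α (p - 1))
    (hstalk : ∀ (q : Spec A) (T : ShortComplex (ModuleCat.{u} (X.presheaf.stalk (j q)))), T.ShortExact →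
      (T.map (GF ((KFlatLib.stalkCx X (j q)).obj P) p)).ShortExact) :
    Module.Flat A ((M.X p : Type u) ⧸ LinearMap.range (M.d (p - 1) p).hom) ∧
      Module.Flat A ((M.X (p + 1) : Type u) ⧸ LinearMap.range (M.d p (p + 1)).hom) := by
  choose χ hloc hfree he using fun q : Spec A => exists_GF_iso_model P hP eP j M r a b hr hM p α hα q
  have key : ∀ q : Spec A,
      Module.Flat _ ((((DRingLib.extCx (χ q)).obj M).X p : Type u) ⧸
        LinearMap.range (((DRingLib.extCx (χ q)).obj M).d (p - 1) p).hom) ∧
      Module.Flat _ ((((DRingLib.extCx (χ q)).obj M).X (p + 1) : Type u) ⧸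
        LinearMap.range (((DRingLib.extCx (χ q)).obj M).d p (p + 1)).hom) := fun q => by
    haveI := hfree q
    obtain ⟨e⟩ := he q
    exact flat_of_shortExact_GF ((DRingLib.extCx (χ q)).obj M) p fun T hT =>
      ShortComplex.shortExact_of_iso (T.mapNatIso e).symm (hstalk q T hT)
  suffices glob : ∀ (N : Type u) [AddCommGroup N] [Module A N],
      (∀ q : Spec A, letI := (χ q).toAlgebra; Module.Flat (X.presheaf.stalk (j q)) (TensorProduct A (X.presheaf.stalk (j q)) N)) →
      Module.Flat A N from
    ⟨glob _ fun q => flat_of_flat_ext (χ q) M _ _ (key q).1, glob _ fun q => flat_of_flat_ext (χ q) M _ _ (key q).2⟩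
  intro N _ _ hN
  classical
  refine Module.flat_of_localized_maximal N fun J hJ => ?_
  let q : Spec A := ⟨J, hJ.isPrime⟩
  letI := (χ q).toAlgebra
  haveI : IsLocalization J.primeCompl (X.presheaf.stalk (j q)) := hloc q
  haveI := hN q
  haveI : Module.Flat A (X.presheaf.stalk (j q)) := IsLocalization.flat _ J.primeCompl
  haveI : Module.Flat A (TensorProduct A (X.presheaf.stalk (j q)) N) :=
    Module.Flat.trans A (X.presheaf.stalk (j q)) _
  exact Module.Flat.of_linearEquiv (IsLocalizedModule.linearEquiv J.primeCompl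
    (LocalizedModule.mkLinearMap J.primeCompl N) (TensorProduct.mk A (X.presheaf.stalk (j q)) N 1))

end ExactHpLib
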